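import Mathlib

/-!
Orders of three numbers with product one whose set, together with the inverses, is stable under the
`q`-th power map in characteristic `p`.
-/

set_option autoImplicit false

namespace CfsgLib.G2Spec

open Polynomial

/-- The maximal element orders of `G₂(q)` and, possibly, further numbers used as upper bounds. -/
def allowed (p q : ℕ) : Set ℕ :=
  if p = 2 then {8, 12, 2 * (q + 1), 2 * (q - 1), q ^ 2 - 1, q ^ 2 + q + 1, q ^ 2 - q + 1}
  else ({p * (q + 1), p * (q - 1), q ^ 2 - 1, q ^ 2 + q + 1, q ^ 2 - q + 1} : Set ℕ) ∪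
    (if p = 3 ∨ p = 5 then ({p ^ 2} : Set ℕ) else ∅)

theorem mem_allowed_mul (p q : ℕ) : p * (q + 1) ∈ allowed p q ∧ p * (q - 1) ∈ allowed p q := by
  unfold allowed
  split_ifs with h h' <;> subst_vars <;> simp

theorem mem_allowed_sq (p q : ℕ) :
    q ^ 2 - 1 ∈ allowed p q ∧ q ^ 2 + q + 1 ∈ allowed p q ∧ q ^ 2 - q + 1 ∈ allowed p q := by
  unfold allowed
  split_ifs with h h' <;> simp

theorem mem_allowed_two (q : ℕ) : 8 ∈ allowed 2 q ∧ 12 ∈ allowed 2 q := by
  simp [allowed]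

variable {L : Type*} [Field L] {p n q : ℕ} [Fact p.Prime] [CharP L p]

theorem pow_q_injective (hq : q = p ^ n) : Function.Injective fun x : L => x ^ q := by
  intro x y h
  refine (iterateFrobenius L p n).injective ?_
  simpa [iterateFrobenius_def, ← hq] using h

theorem q_pos (hq : q = p ^ n) : 1 ≤ q := hq ▸ Nat.one_le_pow _ _ (Fact.out : p.Prime).pos

theorem pow_pred_of_pow_eq {x : L} (hx : x ≠ 0) {m : ℕ} (hm : 1 ≤ m) (h : x ^ m = x) : x ^ (m - 1) = 1 := by
  obtain ⟨k, rfl⟩ := Nat.exists_eq_add_of_le' hm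
  rw [pow_succ] at h
  exact mul_right_cancel₀ hx (h.trans (one_mul x).symm)

theorem pow_q_sq {x y : L} (hx : x ^ q = y) (hy : y ^ q = x) : x ^ q ^ 2 = x := by
  rw [pow_two, pow_mul, hx, hy]

theorem dvd_sq_pred (q : ℕ) : q - 1 ∣ q ^ 2 - 1 ∧ q + 1 ∣ q ^ 2 - 1 := by
  have h : q ^ 2 - 1 = (q + 1) * (q - 1) := by
    rw [← Nat.sq_sub_sq, one_pow]
  exact ⟨h ▸ dvd_mul_left _ _, h ▸ dvd_mul_right _ _⟩

theorem pow_of_dvd {x : L} {d e : ℕ} (h : x ^ d = 1) (hde : d ∣ e) : x ^ e = 1 := by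
  obtain ⟨k, rfl⟩ := hde
  rw [pow_mul, h, one_pow]

theorem sq_one_pow (hq : q = p ^ n) {x : L} (h : x * x = 1) : x ^ q = x := by
  rcases mul_self_eq_one_iff.1 h with rfl | rfl
  · rw [one_pow]
  · have := (iterateFrobenius L p n).map_neg 1
    rwa [map_one, iterateFrobenius_def, ← hq] at this

/-- The degenerate case. -/
theorem degen (hq : q = p ^ n) {a b c : L} (habc : a * b * c = 1) (hc : c * c = 1)
    (ha : a ^ q ∈ [1, a, b, c, a⁻¹, b⁻¹, c⁻¹]) :
    a ^ (q ^ 2 - 1) = 1 ∧ b ^ (q ^ 2 - 1) = 1 ∧ c ^ (q ^ 2 - 1) = 1 := by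
  have h1 := q_pos hq
  have hc0 : c ≠ 0 := left_ne_zero_of_mul_eq_one hc
  have hab : a * b ≠ 0 := left_ne_zero_of_mul_eq_one habc
  have ha0 : a ≠ 0 := left_ne_zero_of_mul hab
  have hcq : c ^ q = c := sq_one_pow hq hc
  have hci : c⁻¹ = c := inv_eq_of_mul_eq_one_left hc
  have hb : b = c * a⁻¹ := by
    field_simp
    linear_combination c * habc - a * b * hc
  have hb' : b⁻¹ = c * a := by rw [hb, mul_inv, inv_inv, hci]
  have key : a ^ q ^ 2 = a := by
    simp only [List.mem_cons, List.not_mem_nil, or_false, hci, hb'] at ha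
    have hsq : a ^ q * a ^ q = 1 → a ^ q ^ 2 = a := fun h => by
      have : a * a = 1 := pow_q_injective hq (by simpa [mul_pow] using h)
      rw [pow_two, pow_mul, sq_one_pow hq this, sq_one_pow hq this]
    have hinv : a⁻¹ ^ q = (a ^ q)⁻¹ := inv_pow a q
    rcases ha with h | h | h | h | h | h | h
    · exact hsq (by rw [h, one_mul])
    · exact pow_q_sq h h
    · rw [hb] at h
      refine pow_q_sq h ?_
      rw [mul_pow, hcq, hinv, h, mul_inv, inv_inv, hci, ← mul_assoc, hc, one_mul]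
    · exact hsq (by rw [h, hc])
    · exact pow_q_sq h (by rw [hinv, h, inv_inv])
    · refine pow_q_sq h ?_
      rw [mul_pow, hcq, h, ← mul_assoc, hc, one_mul]
    · exact hsq (by rw [h, hc])
  have hc2 : c ^ (q ^ 2 - 1) = 1 := pow_of_dvd (pow_pred_of_pow_eq hc0 h1 hcq) (dvd_sq_pred q).1
  have ha2 : a ^ (q ^ 2 - 1) = 1 := pow_pred_of_pow_eq ha0 (Nat.one_le_pow _ _ h1) key
  exact ⟨ha2, by rw [hb, mul_pow, inv_pow, hc2, ha2, inv_one, one_mul], hc2⟩

theorem signs {x y z u v w : L} (h : x * y * z = 1) (huvw : u * v * w = 1)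
    (hu : u * u ≠ 1) (hv : v * v ≠ 1) (hw : w * w ≠ 1)
    (hx : x = u ∨ x = u⁻¹) (hy : y = v ∨ y = v⁻¹) (hz : z = w ∨ z = w⁻¹) :
    (x = u ∧ y = v ∧ z = w) ∨ (x = u⁻¹ ∧ y = v⁻¹ ∧ z = w⁻¹) := by
  have h0 : u ≠ 0 ∧ v ≠ 0 ∧ w ≠ 0 :=
    ⟨left_ne_zero_of_mul (left_ne_zero_of_mul_eq_one huvw), right_ne_zero_of_mul (left_ne_zero_of_mul_eq_one huvw),
      right_ne_zero_of_mul_eq_one huvw⟩
  obtain ⟨hu0, hv0, hw0⟩ := h0
  rcases hx with hx | hx <;> rcases hy with hy | hy <;> rcases hz with hz | hz <;> rw [hx, hy, hz] at h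
  · exact Or.inl ⟨hx, hy, hz⟩
  · exact absurd (calc w * w = w * w * (u * v * w⁻¹) := by rw [h, mul_one]
      _ = u * v * w := by field_simp
      _ = 1 := huvw) hw
  · exact absurd (calc v * v = v * v * (u * v⁻¹ * w) := by rw [h, mul_one]
      _ = u * v * w := by field_simp
      _ = 1 := huvw) hv
  · exact absurd (calc u * u = (u * v⁻¹ * w⁻¹) * (u * v * w) := by field_simp
      _ = 1 := by rw [h, huvw, one_mul]) hu
  · exact absurd (calc u * u = u * u * (u⁻¹ * v * w) := by rw [h, mul_one]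
      _ = u * v * w := by field_simp
      _ = 1 := huvw) hu
  · exact absurd (calc v * v = (u⁻¹ * v * w⁻¹) * (u * v * w) := by field_simp
      _ = 1 := by rw [h, huvw, one_mul]) hv
  · exact absurd (calc w * w = (u⁻¹ * v⁻¹ * w) * (u * v * w) := by field_simp
      _ = 1 := by rw [h, huvw, one_mul]) hw
  · exact Or.inr ⟨hx, hy, hz⟩

/-- The generic case. -/
theorem distinct_bound (hq : q = p ^ n) {a b c : L} (habc : a * b * c = 1) (hab : a ≠ b) (hbc : b ≠ c) (hac : a ≠ c)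
    (ha : a ^ q ∈ [1, a, b, c, a⁻¹, b⁻¹, c⁻¹]) (hb : b ^ q ∈ [1, a, b, c, a⁻¹, b⁻¹, c⁻¹])
    (hc : c ^ q ∈ [1, a, b, c, a⁻¹, b⁻¹, c⁻¹]) :
    ∃ e ∈ ({q ^ 2 - 1, q ^ 2 + q + 1, q ^ 2 - q + 1} : Set ℕ), a ^ e = 1 ∧ b ^ e = 1 ∧ c ^ e = 1 := by
  have h1 := q_pos hq
  by_cases dc : c * c = 1
  · exact ⟨_, Or.inl rfl, degen hq habc dc ha⟩
  by_cases da : a * a = 1
  · obtain ⟨x, y, z⟩ := degen hq (a := b) (b := c) (c := a) (by linear_combination habc) da
      (by simp only [List.mem_cons, List.not_mem_nil, or_false] at hb ⊢; tauto)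
    exact ⟨_, Or.inl rfl, z, x, y⟩
  by_cases db : b * b = 1
  · obtain ⟨x, y, z⟩ := degen hq (a := c) (b := a) (c := b) (by linear_combination habc) db
      (by simp only [List.mem_cons, List.not_mem_nil, or_false] at hc ⊢; tauto)
    exact ⟨_, Or.inl rfl, y, z, x⟩
  have inj := pow_q_injective (L := L) hq
  have hne : ∀ {x : L}, x * x ≠ 1 → x ^ q ≠ 1 := fun {x} hx h => hx (by
    have : x = 1 := inj (h.trans (one_pow q).symm)
    rw [this, one_mul])
  have cls : ∀ {x : L}, x * x ≠ 1 → x ^ q ∈ [1, a, b, c, a⁻¹, b⁻¹, c⁻¹] →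
      (x ^ q = a ∨ x ^ q = a⁻¹) ∨ (x ^ q = b ∨ x ^ q = b⁻¹) ∨ (x ^ q = c ∨ x ^ q = c⁻¹) := fun {x} hx h => by
    simp only [List.mem_cons, List.not_mem_nil, or_false] at h
    have := hne hx
    tauto
  have excl : ∀ {x y u : L}, x ≠ y → x * y ≠ 1 → (x ^ q = u ∨ x ^ q = u⁻¹) → (y ^ q = u ∨ y ^ q = u⁻¹) → False :=
    fun {x y u} hxy hxy1 h h' => by
      have i : ∀ {s t : L}, s ^ q = t⁻¹ → s⁻¹ ^ q = t := fun {s t} e => by rw [inv_pow, e, inv_inv]
      rcases h with h | h <;> rcases h' with h' | h'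
      · exact hxy (inj (h.trans h'.symm))
      · have e : x = y⁻¹ := inj (h.trans (i h').symm)
        exact hxy1 (by rw [e]; exact inv_mul_cancel₀ fun h0 => hxy (by rw [e, h0, inv_zero]))
      · have e : y = x⁻¹ := inj (h'.trans (i h).symm)
        exact hxy1 (by rw [e]; exact mul_inv_cancel₀ fun h0 => hxy (by rw [e, h0, inv_zero]))
      · exact hxy (inj (h.trans h'.symm))
  have a0 : a ≠ 0 := left_ne_zero_of_mul (left_ne_zero_of_mul_eq_one habc)
  have b0 : b ≠ 0 := right_ne_zero_of_mul (left_ne_zero_of_mul_eq_one habc)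
  have c0 : c ≠ 0 := right_ne_zero_of_mul_eq_one habc
  have p1 : a * b ≠ 1 := fun h => dc (by rw [show c = 1 by linear_combination habc - c * h, one_mul])
  have p2 : b * c ≠ 1 := fun h => da (by rw [show a = 1 by linear_combination habc - a * h, one_mul])
  have p3 : a * c ≠ 1 := fun h => db (by rw [show b = 1 by linear_combination habc - b * h, one_mul])
  have hprod : a ^ q * b ^ q * c ^ q = 1 := by rw [← mul_pow, ← mul_pow, habc, one_pow]
  have sq : ∀ {x y : L}, x ≠ 0 → (x ^ q = y ∧ y ^ q = x) ∨ (x ^ q = y⁻¹ ∧ y ^ q = x⁻¹) →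
      x ^ (q ^ 2 - 1) = 1 := fun {x y} hx h => pow_pred_of_pow_eq hx (Nat.one_le_pow _ _ h1) (by
    rcases h with ⟨u, v⟩ | ⟨u, v⟩
    · exact pow_q_sq u v
    · exact pow_q_sq u (by rw [inv_pow, v, inv_inv]))
  have cyc : ∀ {x y z : L}, x * y * z = 1 → x ^ q = y → y ^ q = z → x ^ (q ^ 2 + q + 1) = 1 :=
    fun {x y z} h u v => by rw [pow_succ, pow_add, pow_two, pow_mul, u, v]; linear_combination h
  have cyc' : ∀ {x y z : L}, x * y * z = 1 → x ^ q = y⁻¹ → y ^ q = z⁻¹ → x ^ (q ^ 2 - q + 1) = 1 :=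
    fun {x y z} h u v => by
      have hle : q ≤ q ^ 2 := Nat.le_self_pow (by norm_num) q
      have e : x ^ (q ^ 2 - q + 1) * x ^ q = x ^ (q ^ 2) * x := by
        rw [← pow_add, ← pow_succ]; congr 1; omega
      rw [show x ^ q ^ 2 = z by rw [pow_two, pow_mul, u, inv_pow, v, inv_inv], u] at e
      have hy : y ≠ 0 := right_ne_zero_of_mul (left_ne_zero_of_mul_eq_one h)
      field_simp at e
      linear_combination e + h
  have e2 : ∀ {u v w : L}, u * v * w = 1 → u * u ≠ 1 → v * v ≠ 1 → w * w ≠ 1 →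
      (a ^ q = u ∨ a ^ q = u⁻¹) → (b ^ q = v ∨ b ^ q = v⁻¹) → (c ^ q = w ∨ c ^ q = w⁻¹) →
      (a ^ q = u ∧ b ^ q = v ∧ c ^ q = w) ∨ (a ^ q = u⁻¹ ∧ b ^ q = v⁻¹ ∧ c ^ q = w⁻¹) :=
    fun h hu hv hw x y z => signs hprod h hu hv hw x y z
  rcases cls da ha with A | A | A <;> rcases cls db hb with B | B | B <;> rcases cls dc hc with C | C | C <;>
    first
      | exact (excl hab p1 A B).elim
      | exact (excl hbc p2 B C).elim
      | exact (excl hac p3 A C).elim
      | skip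
  · rcases e2 habc da db dc A B C with ⟨x, y, z⟩ | ⟨x, y, z⟩ <;>
      exact ⟨_, Or.inl rfl, sq a0 (y := a) (by tauto), sq b0 (y := b) (by tauto), sq c0 (y := c) (by tauto)⟩
  · rcases e2 (by linear_combination habc) da dc db A B C with ⟨x, y, z⟩ | ⟨x, y, z⟩ <;>
      exact ⟨_, Or.inl rfl, sq a0 (y := a) (by tauto), sq b0 (y := c) (by tauto), sq c0 (y := b) (by tauto)⟩
  · rcases e2 (by linear_combination habc) db da dc A B C with ⟨x, y, z⟩ | ⟨x, y, z⟩ <;>
      exact ⟨_, Or.inl rfl, sq a0 (y := b) (by tauto), sq b0 (y := a) (by tauto), sq c0 (y := c) (by tauto)⟩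
  · rcases e2 (by linear_combination habc) db dc da A B C with ⟨x, y, z⟩ | ⟨x, y, z⟩
    · exact ⟨_, Or.inr (Or.inl rfl), cyc habc x y, cyc (by linear_combination habc) y z,
        cyc (by linear_combination habc) z x⟩
    · exact ⟨_, Or.inr (Or.inr rfl), cyc' habc x y, cyc' (by linear_combination habc) y z,
        cyc' (by linear_combination habc) z x⟩
  · rcases e2 (by linear_combination habc) dc da db A B C with ⟨x, y, z⟩ | ⟨x, y, z⟩
    · exact ⟨_, Or.inr (Or.inl rfl), cyc (by linear_combination habc) x z, cyc (by linear_combination habc) y x,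
        cyc (by linear_combination habc) z y⟩
    · exact ⟨_, Or.inr (Or.inr rfl), cyc' (by linear_combination habc) x z, cyc' (by linear_combination habc) y x,
        cyc' (by linear_combination habc) z y⟩
  · rcases e2 (by linear_combination habc) dc db da A B C with ⟨x, y, z⟩ | ⟨x, y, z⟩ <;>
      exact ⟨_, Or.inl rfl, sq a0 (y := c) (by tauto), sq b0 (y := b) (by tauto), sq c0 (y := a) (by tauto)⟩

theorem four_pow (hq : q = p ^ n) {x : L} (h : x ^ 4 = 1) : x ^ (q - 1) = 1 ∨ x ^ (q + 1) = 1 := by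
  by_cases h2 : p = 2
  · subst h2
    have e : (x ^ 2) ^ 2 = (1 : L) ^ 2 := by rw [← pow_mul, h, one_pow]
    have i := frobenius_inj L 2
    have : x ^ 2 = 1 := i (by simpa [frobenius_def] using e)
    have : x = 1 := i (by simpa [frobenius_def] using this)
    exact Or.inl (by rw [this, one_pow])
  · have hodd : q % 2 = 1 := by
      rw [hq, Nat.pow_mod, (Fact.out : p.Prime).eq_two_or_odd.resolve_left h2, one_pow, Nat.one_mod]
    rcases (show 4 ∣ q - 1 ∨ 4 ∣ q + 1 by omega) with h' | h'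
    exacts [Or.inl (pow_of_dvd h h'), Or.inr (pow_of_dvd h h')]

/-- Two equal roots. -/
theorem double_bound (hq : q = p ^ n) {a c : L} (hac : a * a * c = 1) (hne : a ≠ c)
    (hM : (Multiset.map (fun x => x ^ q) ({1, 1, a, a, c, a * c, c * a, a * a} : Multiset L)) =
      {1, 1, a, a, c, a * c, c * a, a * a}) :
    ∃ e ∈ ({q - 1, q + 1} : Set ℕ), a ^ e = 1 ∧ c ^ e = 1 := by
  classical
  have h1 := q_pos hq
  have ha0 : a ≠ 0 := left_ne_zero_of_mul (left_ne_zero_of_mul_eq_one hac)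
  have hi : a * c = a⁻¹ := eq_inv_of_mul_eq_one_right (by linear_combination hac)
  have hi' : c * a = a⁻¹ := by rw [mul_comm, hi]
  have hfin : ∀ e, a ^ e = 1 → a ^ e = 1 ∧ c ^ e = 1 := fun e h => ⟨h, by
    have := congrArg (· ^ e) hac
    simpa [mul_pow, h] using this⟩
  suffices a ^ (q - 1) = 1 ∨ a ^ (q + 1) = 1 by
    rcases this with h | h
    exacts [⟨_, Or.inl rfl, hfin _ h⟩, ⟨_, Or.inr rfl, hfin _ h⟩]
  obtain ⟨M, hMd⟩ : ∃ M : Multiset L, M = {1, 1, a, a, c, a * c, c * a, a * a} := ⟨_, rfl⟩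
  rw [← hMd] at hM
  have hmem : a ^ q ∈ M := by
    rw [← hM]; exact Multiset.mem_map_of_mem _ (by rw [hMd]; simp)
  have hcount : 2 ≤ Multiset.count (a ^ q) M := by
    rw [← hM, Multiset.count_map_eq_count' _ _ (pow_q_injective hq), hMd]
    simp [Multiset.count_cons]
    omega
  have hone : a ≠ 1 := fun h => hne (by rw [h] at hac ⊢; linear_combination -hac)
  have h3 : a * a * a ≠ 1 := fun h => hne (mul_left_cancel₀ (mul_ne_zero ha0 ha0) (h.trans hac.symm))
  rw [hMd] at hmem hcount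
  simp only [Multiset.insert_eq_cons, Multiset.mem_cons, Multiset.mem_singleton, hi, hi'] at hmem
  have big : (a ^ q = c ∨ a ^ q = a * a) → a ^ (q - 1) = 1 ∨ a ^ (q + 1) = 1 := fun hy => by
    by_cases h2 : a * a = 1
    · exact Or.inl (pow_pred_of_pow_eq ha0 h1 (sq_one_pow hq h2))
    by_cases h4 : a ^ 4 = 1
    · exact four_pow hq h4
    exfalso
    have hcc : c ≠ a * a := fun h => h4 (by rw [h] at hac; linear_combination hac)
    have hc1 : c ≠ 1 := fun h => h2 (by rw [h, mul_one] at hac; exact hac)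
    have hci : c ≠ a⁻¹ := fun h => hone (by rw [h, mul_assoc, mul_inv_cancel₀ ha0, mul_one] at hac; exact hac)
    have hai : a * a ≠ a⁻¹ := fun h => h3 (by rw [h, inv_mul_cancel₀ ha0])
    have haa : a * a ≠ a := fun h => hone (mul_left_cancel₀ ha0 (h.trans (mul_one a).symm))
    rcases hy with hy | hy <;> rw [hy] at hcount <;>
      simp [Multiset.count_cons, hi, hi', hcc, hc1, hci, hai, haa, hne.symm, h2, Ne.symm hcc] at hcount
  rcases hmem with h | h | h | h | h | h | h | h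
  · exact absurd (pow_q_injective (L := L) hq (h.trans (one_pow q).symm)) hone
  · exact absurd (pow_q_injective (L := L) hq (h.trans (one_pow q).symm)) hone
  · exact Or.inl (pow_pred_of_pow_eq ha0 h1 h)
  · exact Or.inl (pow_pred_of_pow_eq ha0 h1 h)
  · exact big (Or.inl h)
  · exact Or.inr (by rw [pow_succ, h, inv_mul_cancel₀ ha0])
  · exact Or.inr (by rw [pow_succ, h, inv_mul_cancel₀ ha0])
  · exact big (Or.inr h)

/-- Three equal roots. -/
theorem triple_bound (hq : q = p ^ n) (hn : n ≠ 0) {a : L} (h : a ^ 3 = 1) :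
    ∃ e k, (∃ N ∈ allowed p q, e * p ^ k ∣ N) ∧ a ^ e = 1 ∧ 3 ≤ p ^ k := by
  have hp : p.Prime := Fact.out
  by_cases h2 : p = 2
  · subst h2
    exact ⟨3, 2, ⟨12, (mem_allowed_two q).2, by norm_num⟩, h, by norm_num⟩
  have h3 : 3 ≤ p ^ 1 := by rw [pow_one]; have := hp.two_le; omega
  by_cases h3p : p = 3
  · subst h3p
    have i := frobenius_inj L 3
    have : a = 1 := i (by simpa [frobenius_def] using h)
    exact ⟨1, 1, ⟨_, (mem_allowed_mul 3 q).1, by simp⟩, by rw [this, one_pow], h3⟩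
  have h3q : ¬ 3 ∣ q := by
    rw [hq]
    exact fun hd => h3p ((Nat.prime_dvd_prime_iff_eq Nat.prime_three hp).1 (Nat.prime_three.dvd_of_dvd_pow hd)).symm
  refine ⟨3, 1, ?_, h, h3⟩
  rw [pow_one]
  rcases (show 3 ∣ q - 1 ∨ 3 ∣ q + 1 by omega) with h' | h'
  · exact ⟨_, (mem_allowed_mul p q).2, by rw [mul_comm 3 p]; exact mul_dvd_mul_left p h'⟩
  · exact ⟨_, (mem_allowed_mul p q).1, by rw [mul_comm 3 p]; exact mul_dvd_mul_left p h'⟩

theorem three_dvd {P A B C : L[X]} {m : ℕ} (hm : 1 ≤ m) (hA : A ∣ P) (hB : B ∣ P) (hC : C ∣ P)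
    (hAB : IsCoprime A B) (hBC : IsCoprime B C) (hAC : IsCoprime A C) : A * B * C ∣ P ^ m :=
  (IsCoprime.mul_dvd (hAC.mul_left hBC) (hAB.mul_dvd hA hB) hC).trans (dvd_pow_self P (by omega))

/-- The exponent of the roots of the characteristic polynomial, with multiplicities. -/
theorem roots_bound (hq : q = p ^ n) (hn : n ≠ 0) {a b c : L} (habc : a * b * c = 1)
    (hM : (Multiset.map (fun x => x ^ q) ({1, 1, a, b, c, b * c, c * a, a * b} : Multiset L)) =
      {1, 1, a, b, c, b * c, c * a, a * b}) :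
    ∃ e k, (∃ N ∈ allowed p q, e * p ^ k ∣ N) ∧
      (X - C a) * (X - C b) * (X - C c) ∣ ((X : L[X]) ^ (e * p ^ k) - 1) := by
  have hp : p.Prime := Fact.out
  have hpw : ∀ e k, ((X : L[X]) ^ e - 1) ^ p ^ k = X ^ (e * p ^ k) - 1 := fun e k => by
    rw [sub_pow_char_pow, ← pow_mul, one_pow]
  have hd : ∀ {x : L} {e : ℕ}, x ^ e = 1 → X - C x ∣ (X : L[X]) ^ e - 1 := fun {x e} h => by
    rw [dvd_iff_isRoot]; simp [h]
  have cop : ∀ {x y : L}, x ≠ y → IsCoprime (X - C x) (X - C y) := fun h => isCoprime_X_sub_C_of_isUnit_sub (sub_ne_zero.2 h).isUnit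
  have two : ∀ {x z : L}, x * x * z = 1 → x ≠ z →
      (Multiset.map (fun t => t ^ q) ({1, 1, x, x, z, x * z, z * x, x * x} : Multiset L)) =
        {1, 1, x, x, z, x * z, z * x, x * x} →
      ∃ e k, (∃ N ∈ allowed p q, e * p ^ k ∣ N) ∧
        (X - C x) * (X - C x) * (X - C z) ∣ ((X : L[X]) ^ (e * p ^ k) - 1) := fun {x z} h hne hM' => by
    obtain ⟨e, he, hx, hz⟩ := double_bound hq h hne hM'
    refine ⟨e, 1, ?_, ?_⟩
    · rw [pow_one, mul_comm]
      rcases he with rfl | rfl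
      exacts [⟨_, (mem_allowed_mul p q).2, dvd_rfl⟩, ⟨_, (mem_allowed_mul p q).1, dvd_rfl⟩]
    · rw [← hpw, pow_one]
      have h2 : (X - C x) * (X - C x) ∣ ((X : L[X]) ^ e - 1) ^ p := by
        rw [← pow_two]
        exact (pow_dvd_pow_of_dvd (hd hx) 2).trans (pow_dvd_pow _ hp.two_le)
      exact IsCoprime.mul_dvd ((cop hne).mul_left (cop hne)) h2 ((hd hz).trans (dvd_pow_self _ hp.ne_zero))
  have trip : ∀ {x : L}, x * x * x = 1 →
      ∃ e k, (∃ N ∈ allowed p q, e * p ^ k ∣ N) ∧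
        (X - C x) * (X - C x) * (X - C x) ∣ ((X : L[X]) ^ (e * p ^ k) - 1) := fun {x} h => by
    obtain ⟨e, k, hN, he, hk⟩ := triple_bound hq hn (show x ^ 3 = 1 by linear_combination h)
    refine ⟨e, k, hN, ?_⟩
    rw [← hpw, ← pow_three']
    exact (pow_dvd_pow_of_dvd (hd he) 3).trans (pow_dvd_pow _ hk)
  by_cases hab : a = b
  · subst hab
    by_cases hac : a = c
    · subst hac; exact trip habc
    exact two habc hac hM
  by_cases hac : a = c
  · subst hac
    obtain ⟨e, k, hN, hdiv⟩ := two (x := a) (z := b) (by linear_combination habc) hab (by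
      simp only [Multiset.insert_eq_cons, ← Multiset.singleton_add] at hM ⊢
      have e1 : ({1} + ({1} + ({a} + ({a} + ({b} + ({a * b} + ({b * a} + ({a * a} : Multiset L)))))))) =
          {1} + ({1} + ({a} + ({b} + ({a} + ({b * a} + ({a * a} + {a * b})))))) := by
        simp only [mul_comm b a]; abel
      rw [e1]; exact hM)
    exact ⟨e, k, hN, by rwa [mul_right_comm]⟩
  by_cases hbc : b = c
  · subst hbc
    obtain ⟨e, k, hN, hdiv⟩ := two (x := b) (z := a) (by linear_combination habc) (Ne.symm hab) (by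
      simp only [Multiset.insert_eq_cons, ← Multiset.singleton_add] at hM ⊢
      have e1 : ({1} + ({1} + ({b} + ({b} + ({a} + ({b * a} + ({a * b} + ({b * b} : Multiset L)))))))) =
          {1} + ({1} + ({a} + ({b} + ({b} + ({b * b} + ({b * a} + {a * b})))))) := by
        simp only [mul_comm b a]; abel
      rw [e1]; exact hM)
    exact ⟨e, k, hN, by rwa [mul_comm, ← mul_assoc] at hdiv⟩
  have ha0 : a ≠ 0 := left_ne_zero_of_mul (left_ne_zero_of_mul_eq_one habc)
  have hseven : ∀ x ∈ ({a, b, c} : Multiset L), x ^ q ∈ [1, a, b, c, a⁻¹, b⁻¹, c⁻¹] := fun x hx => by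
    have : x ^ q ∈ ({1, 1, a, b, c, b * c, c * a, a * b} : Multiset L) := by
      rw [← hM]; refine Multiset.mem_map_of_mem _ ?_
      simp only [Multiset.insert_eq_cons, Multiset.mem_cons, Multiset.mem_singleton] at hx ⊢
      tauto
    rw [show b * c = a⁻¹ from eq_inv_of_mul_eq_one_right (by linear_combination habc),
      show c * a = b⁻¹ from eq_inv_of_mul_eq_one_right (by linear_combination habc),
      show a * b = c⁻¹ from eq_inv_of_mul_eq_one_left habc] at this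
    simp only [Multiset.insert_eq_cons, Multiset.mem_cons, Multiset.mem_singleton] at this
    simp only [List.mem_cons, List.not_mem_nil, or_false]
    tauto
  obtain ⟨e, he, ea, eb, ec⟩ := distinct_bound hq habc hab hbc hac (hseven a (by simp)) (hseven b (by simp))
    (hseven c (by simp))
  refine ⟨e, 0, ⟨e, ?_, by simp⟩, ?_⟩
  · obtain ⟨m1, m2, m3⟩ := mem_allowed_sq p q
    rcases he with rfl | rfl | rfl <;> assumption
  · rw [pow_zero, mul_one]
    exact (three_dvd (le_refl 1) (hd ea) (hd eb) (hd ec) (cop hab) (cop hbc) (cop hac)).trans (by rw [pow_one])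

/-- The bound in the quaternion case. -/
theorem pair_bound (hq : q = p ^ n) {b : L} (hb0 : b ≠ 0) (hb1 : b ≠ 1)
    (h : b ^ q ∈ ({1, 1, 1, b, b⁻¹, b⁻¹ * 1, 1 * b, 1} : Multiset L)) : ∃ N ∈ allowed p q, b ^ N = 1 ∧ p ∣ N := by
  simp only [one_mul, mul_one, Multiset.insert_eq_cons, Multiset.mem_cons, Multiset.mem_singleton] at h
  have h' : b ^ q = b ∨ b ^ q = b⁻¹ := by
    have : b ^ q ≠ 1 := fun e => hb1 (pow_q_injective (L := L) hq (e.trans (one_pow q).symm))
    tauto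
  rcases h' with h | h
  · exact ⟨_, (mem_allowed_mul p q).2,
      pow_of_dvd (pow_pred_of_pow_eq hb0 (q_pos hq) h) (dvd_mul_left _ _), dvd_mul_right _ _⟩
  · exact ⟨_, (mem_allowed_mul p q).1,
      pow_of_dvd (show b ^ (q + 1) = 1 by rw [pow_succ, h, inv_mul_cancel₀ hb0]) (dvd_mul_left _ _),
      dvd_mul_right _ _⟩

end CfsgLib.G2Spec
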