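import Cfsg.Agent.Lib.GTwoSpec.Transitive
import Cfsg.Agent.Lib.GTwoSpec.Roots
import Cfsg.Agent.Lib.GTwoSpec.Octonion

/-!
Extension of scalars, fixed idempotents of semisimple automorphisms and unipotent automorphisms.
-/

set_option autoImplicit false
set_option linter.unusedSectionVars false

namespace CfsgLib.G2Spec

open Matrix Polynomial Cfsg.Lie CfsgLib.OctG2 CfsgLib.NormalCover.OctEven

section Extension

variable {F L : Type*} [Field F] [Field L] (f : F →+* L)

theorem map_evalT (t : F) : ∀ A : List Tm, (evalT t A).map f = evalT (f t) A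
  | [] => by simp [evalT]
  | a :: A => by
    rw [evalT, evalT, Matrix.map_add f f.map_add, map_evalT t A, Tm.val, Tm.val, Matrix.map_single]
    simp

/-- The left multiplication by a vector. -/
def lmul {K : Type*} [Field K] (x : Fin 8 → K) : Matrix (Fin 8) (Fin 8) K :=
  ∑ i : Fin 8, x i • evalT (0 : K) (lTable.getD i.val [])

theorem mem_G2_iff {K : Type*} [Field K] {g : GL (Fin 8) K} :
    g ∈ G2 K ↔ ∀ i : Fin 8, (g : Matrix (Fin 8) (Fin 8) K) * lmul (Pi.single i (1 : K)) =
      lmul ((g : Matrix (Fin 8) (Fin 8) K) *ᵥ Pi.single i (1 : K)) * (g : Matrix (Fin 8) (Fin 8) K) := by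
  constructor
  · intro hg i
    refine Matrix.ext_iff_mulVec.2 fun y => ?_
    rw [← Matrix.mulVec_mulVec, ← Matrix.mulVec_mulVec, lmul, lmul, ← zornMul_eq, ← zornMul_eq]
    exact hg _ y
  · intro h x y
    show (g : Matrix (Fin 8) (Fin 8) K) *ᵥ zornMul x y =
      zornMul ((g : Matrix (Fin 8) (Fin 8) K) *ᵥ x) ((g : Matrix (Fin 8) (Fin 8) K) *ᵥ y)
    let Lm : (Fin 8 → K) →ₗ[K] Matrix (Fin 8) (Fin 8) K :=
      ∑ i : Fin 8, (LinearMap.proj i : (Fin 8 → K) →ₗ[K] K).smulRight (evalT (0 : K) (lTable.getD i.val []))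
    have hL : ∀ v, lmul v = Lm v := fun v => by simp [lmul, Lm]
    have key : (g : Matrix (Fin 8) (Fin 8) K) * lmul x =
        lmul ((g : Matrix (Fin 8) (Fin 8) K) *ᵥ x) * (g : Matrix (Fin 8) (Fin 8) K) := by
      have hx : x = ∑ i : Fin 8, x i • Pi.single i (1 : K) := by
        funext a; simp [Finset.sum_apply, Pi.single_apply]
      simp only [hL] at h ⊢
      rw [hx]
      simp only [Matrix.mulVec_sum, Matrix.mulVec_smul, map_sum, map_smul, Finset.mul_sum, Finset.sum_mul,
        Matrix.mul_smul, Matrix.smul_mul, h]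
    rw [zornMul_eq, zornMul_eq, ← lmul, ← lmul, Matrix.mulVec_mulVec, Matrix.mulVec_mulVec, key]

theorem map_lmul (x : Fin 8 → F) : (lmul x).map f = lmul (f ∘ x) := by
  have h : ∀ A, f.mapMatrix (evalT (0 : F) A) = evalT (0 : L) A := fun A => by
    rw [RingHom.mapMatrix_apply, map_evalT, map_zero]
  show f.mapMatrix (lmul x) = _
  rw [lmul, lmul, map_sum]
  refine Finset.sum_congr rfl fun i _ => ?_
  rw [← h, RingHom.mapMatrix_apply, RingHom.mapMatrix_apply, Matrix.map_smul' _ _ _ f.map_mul]
  rfl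

/-- Extension of the field of scalars. -/
noncomputable def mapG2 : G2 F →* G2 L :=
  ((Matrix.GeneralLinearGroup.map f).comp (G2 F).subtype).codRestrict _ fun g => by
    refine mem_G2_iff.2 fun i => ?_
    have h := congrArg f.mapMatrix (mem_G2_iff.1 g.2 i)
    simp only [map_mul, RingHom.mapMatrix_apply, map_lmul] at h
    have e1 : f ∘ (Pi.single i (1 : F)) = (Pi.single i (1 : L) : Fin 8 → L) := by
      funext j; by_cases hj : j = i <;> simp [Pi.single_apply, hj]
    have e2 : f ∘ (((g : GL (Fin 8) F) : Matrix (Fin 8) (Fin 8) F) *ᵥ Pi.single i (1 : F)) =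
        ((g : GL (Fin 8) F) : Matrix (Fin 8) (Fin 8) F).map f *ᵥ Pi.single i (1 : L) := by
      funext j
      simp
    rw [e1, e2] at h
    exact h

theorem coe_mapG2 (g : G2 F) : ((mapG2 f g : GL (Fin 8) L) : Matrix (Fin 8) (Fin 8) L) =
    ((g : GL (Fin 8) F) : Matrix (Fin 8) (Fin 8) F).map f := rfl

theorem mapG2_injective : Function.Injective (mapG2 f) := fun g h e =>
  Subtype.ext (Units.ext (Matrix.map_injective f.injective
    (by rw [← coe_mapG2, ← coe_mapG2, e] : ((g : GL (Fin 8) F) : Matrix (Fin 8) (Fin 8) F).map f =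
      ((h : GL (Fin 8) F) : Matrix (Fin 8) (Fin 8) F).map f)))

theorem det_mapG2 (g : G2 F) (hg : ((g : GL (Fin 8) F) : Matrix (Fin 8) (Fin 8) F).det = 1) :
    ((mapG2 f g : GL (Fin 8) L) : Matrix (Fin 8) (Fin 8) L).det = 1 := by
  rw [coe_mapG2, ← RingHom.mapMatrix_apply, ← RingHom.map_det, hg, map_one]

end Extension

section Fixed

variable {K : Type*} [Field K]

local notation "M8" => Matrix (Fin 8) (Fin 8) K
local notation "V8" => Fin 8 → K

/-- The matrix of an automorphism. -/
def mat (g : G2 K) : M8 := ((g : GL (Fin 8) K) : M8)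

theorem app_eq (g : G2 K) (x : V8) : app g x = mat g *ᵥ x := rfl

/-- An element of the quadratic space orthogonal to the unit is fixed. -/
theorem exists_fixed_trace_zero (h2 : (2 : K) ≠ 0) (s : G2 K) (hdet : (mat s).det = 1) :
    ∃ z : V8, z ≠ 0 ∧ trc z = 0 ∧ app s z = z := by
  classical
  obtain ⟨P, hP⟩ : ∃ P : M8, P = Matrix.replicateCol Unit (one8 : V8) *
      Matrix.replicateRow Unit (fun i => (2 : K)⁻¹ * trc (Pi.single i (1 : K))) := ⟨_, rfl⟩
  have hPv : ∀ v, P *ᵥ v = ((2 : K)⁻¹ * trc v) • one8 := fun v => by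
    rw [hP]
    funext k
    simp [Matrix.mulVec, dotProduct, Matrix.mul_apply, Fin.sum_univ_eight, trc, Pi.single_apply, one8]
    fin_cases k <;> simp <;> ring
  have ht1 : trc (one8 : V8) = 2 := by simp [trc, one8]; norm_num
  have hs1 : mat s *ᵥ one8 = one8 := app_one8 s
  have hst : ∀ v, trc (mat s *ᵥ v) = trc v := fun v => (invariants s v).1
  have hsP : ∀ v, pol (mat s *ᵥ v) one8 = trc v := fun v => by
    have : pol (mat s *ᵥ v) one8 = trc (mat s *ᵥ v) := by simp [pol, one8, trc]
    rw [this, hst]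
  have hPP : (1 - (2 : K) • P) * (mat s - 1 + P) = mat s - 1 - P := by
    refine Matrix.ext_iff_mulVec.2 fun v => ?_
    rw [← Matrix.mulVec_mulVec]
    simp only [Matrix.sub_mulVec, Matrix.add_mulVec, Matrix.one_mulVec, Matrix.smul_mulVec, hPv,
      map_add, map_sub, map_smul, hst, ht1, smul_eq_mul]
    rw [sub_self, zero_add, smul_smul]
    have : (2 : K) * (2⁻¹ * (2⁻¹ * trc v * 2)) = (2⁻¹ * trc v) + (2⁻¹ * trc v) := by field_simp; ring
    rw [this, add_smul]
    abel
  obtain ⟨J, hJ⟩ : ∃ J : M8, J = Matrix.of fun i j => pol (Pi.single i (1 : K)) (Pi.single j (1 : K)) := ⟨_, rfl⟩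
  have hJv : ∀ x y : V8, x ⬝ᵥ (J *ᵥ y) = pol x y := fun x y => by
    rw [hJ]
    simp [Matrix.mulVec, dotProduct, Fin.sum_univ_eight, pol, Pi.single_apply]
    ring
  have hadj : (mat s)ᵀ * J * (mat s - 1 + P) = (1 - mat s + P)ᵀ * J := by
    have hb : ∀ (A : M8) (x y : V8), x ⬝ᵥ ((Aᵀ * J) *ᵥ y) = pol (A *ᵥ x) y := fun A x y => by
      rw [← Matrix.mulVec_mulVec, Matrix.dotProduct_mulVec, Matrix.vecMul_transpose, hJv]
    refine Matrix.ext_iff_mulVec.2 fun y => ?_
    refine (dotProduct_eq_iff (R := K)).1 fun x => ?_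
    rw [dotProduct_comm _ x, dotProduct_comm _ x, ← Matrix.mulVec_mulVec, hb, hb]
    have hps : pol (mat s *ᵥ x) (mat s *ᵥ y) = pol x y := pol_app s x y
    have hone : ∀ v : V8, pol v one8 = trc v := fun v => by simp [pol, one8, trc]
    simp only [Matrix.sub_mulVec, Matrix.add_mulVec, Matrix.one_mulVec, hPv, map_add, map_sub, map_smul,
      LinearMap.add_apply, LinearMap.sub_apply, LinearMap.smul_apply, smul_eq_mul, hps, hsP, pol_one]
    ring
  have hT : (mat s - 1 + P).det = 0 := by
    have hJJ : J * J = 1 := by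
      refine Matrix.ext_iff_mulVec.2 fun v => ?_
      funext k
      rw [← Matrix.mulVec_mulVec, hJ]
      simp [Matrix.mulVec, dotProduct, Fin.sum_univ_eight, pol, Pi.single_apply]
      fin_cases k <;> simp [Matrix.one_apply]
    have hJ0 : J.det ≠ 0 := fun h => by
      have := congrArg Matrix.det hJJ
      rw [det_mul, h, mul_zero, det_one] at this
      exact zero_ne_one this
    have h := congrArg Matrix.det hadj
    rw [det_mul, det_mul, det_mul, det_transpose, det_transpose, hdet, one_mul] at h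
    have h' : (1 - mat s + P).det = (mat s - 1 + P).det * (-1) := by
      rw [show 1 - mat s + P = -(mat s - 1 - P) by abel, det_neg, ← hPP, det_mul]
      have : (1 - (2 : K) • P).det = -1 := by
        rw [show 1 - (2 : K) • P = 1 + Matrix.replicateCol Unit (one8 : V8) *
            Matrix.replicateRow Unit (fun i => -trc (Pi.single i (1 : K))) by
          rw [hP, sub_eq_add_neg, ← Matrix.mul_smul, ← Matrix.mul_neg]
          congr 2
          ext a b
          simp [h2], Matrix.det_one_add_replicateCol_mul_replicateRow]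
        simp [dotProduct, Fin.sum_univ_eight, one8, trc, Pi.single_apply] <;> norm_num
      rw [this, Fintype.card_fin]
      ring
    rw [h'] at h
    have : (2 : K) * (mat s - 1 + P).det * J.det = 0 := by linear_combination h
    simpa [h2, hJ0] using this
  obtain ⟨z, hz0, hz⟩ := Matrix.exists_mulVec_eq_zero_iff.2 hT
  simp only [Matrix.sub_mulVec, Matrix.add_mulVec, Matrix.one_mulVec, hPv] at hz
  have htz : trc z = 0 := by
    have := congrArg trc hz
    simp only [map_add, map_sub, map_smul, hst, ht1, smul_eq_mul, map_zero, sub_self, zero_add] at this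
    rcases mul_eq_zero.1 this with h | h
    · exact (mul_eq_zero.1 h).resolve_left (inv_ne_zero h2)
    · exact absurd h h2
  refine ⟨z, hz0, htz, ?_⟩
  rwa [htz, mul_zero, zero_smul, add_zero, sub_eq_zero] at hz

/-- A semisimple automorphism fixes a primitive idempotent over an algebraically closed field. -/
theorem exists_fixed_idem [IsAlgClosed K] (s : G2 K) {m : ℕ} (hm : (m : K) ≠ 0) (hs : s ^ m = 1)
    (hdet : (mat s).det = 1) : ∃ w, app s w = w ∧ trc w = 1 ∧ nrm w = 0 := by
  have hav : ∀ x : V8, ∃ a, app s a = a ∧ trc a = trc x ∧ ∀ y, app s y = y → pol a y = pol x y := by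
    intro x
    let Sm : V8 := ∑ i ∈ Finset.range m, app (s ^ i) x
    have happ : ∀ (g : G2 K) (F : ℕ → V8), app g (∑ i ∈ Finset.range m, F i) = ∑ i ∈ Finset.range m, app g (F i) :=
      fun g F => Matrix.mulVec_sum _ _ _
    refine ⟨(m : K)⁻¹ • Sm, ?_, ?_, fun y hy => ?_⟩
    · rw [app_smul, happ]
      congr 1
      simp only [← app_mul, ← pow_succ']
      have h1 := Finset.sum_range_succ' (fun i => app (s ^ i) x) m
      have h2 := Finset.sum_range_succ (fun i => app (s ^ i) x) m
      rw [h1, hs] at h2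
      simpa [app_one] using h2
    · rw [map_smul, map_sum]
      simp [(invariants _ x).1, hm]
    · rw [map_smul, LinearMap.smul_apply, map_sum, LinearMap.sum_apply]
      have : ∀ i, pol (app (s ^ i) x) y = pol x y := fun i => by
        have hfix : app (s ^ i) y = y := by
          induction i with
          | zero => rw [pow_zero, app_one]
          | succ i ih => rw [pow_succ, app_mul, hy, ih]
        conv_lhs => rw [← hfix]
        exact pol_app _ x y
      simp [this, hm]
  obtain ⟨a, ha, hdisc⟩ : ∃ a, app s a = a ∧ trc a * trc a ≠ 4 * nrm a := by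
    by_cases h2 : (2 : K) = 0
    · obtain ⟨a, ha, ht, -⟩ := hav e0
      refine ⟨a, ha, ?_⟩
      rw [ht, show (4 : K) = 2 * 2 by norm_num, h2]
      simp [trc, e0]
    by_contra hall
    push Not at hall
    obtain ⟨z, hz0, htz, hz⟩ := exists_fixed_trace_zero h2 s hdet
    refine hz0 (pol_injective (LinearMap.ext fun x => ?_))
    obtain ⟨a, ha, -, hpol⟩ := hav x
    have h1 := hall a ha
    have h3 := hall z hz
    have h4 := hall (a + z) (by rw [app_add, ha, hz])
    rw [map_add, nrm_add, htz, add_zero] at h4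
    rw [htz] at h3
    have hn : nrm z = 0 := by
      have h4ne : (4 : K) ≠ 0 := by rw [show (4 : K) = 2 * 2 by norm_num]; exact mul_ne_zero h2 h2
      exact (mul_eq_zero.1 (by rw [← h3, mul_zero] : (4 : K) * nrm z = 0)).resolve_left h4ne
    have hp : pol a z = 0 := by
      have h4ne : (4 : K) ≠ 0 := by rw [show (4 : K) = 2 * 2 by norm_num]; exact mul_ne_zero h2 h2
      refine (mul_eq_zero.1 (?_ : (4 : K) * pol a z = 0)).resolve_left h4ne
      linear_combination h1 - h4 - 4 * hn
    rw [hpol z hz] at hp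
    have hsym : pol z x = pol x z := by simp [pol]; ring
    rw [map_zero, LinearMap.zero_apply, hsym, hp]
  obtain ⟨r, hr⟩ := IsAlgClosed.exists_root
    ((Polynomial.X : K[X]) ^ 2 - (Polynomial.C (trc a) * Polynomial.X - Polynomial.C (nrm a)))
    (by
      rw [Polynomial.degree_sub_eq_left_of_degree_lt]
      · simp
      · refine lt_of_le_of_lt (Polynomial.degree_linear_le (a := trc a) (b := -nrm a) |> fun h => ?_) (by simp : (1 : WithBot ℕ) < _)
        simpa [sub_eq_add_neg] using h)
  simp only [Polynomial.IsRoot.def, eval_sub, eval_pow, eval_mul, eval_C, eval_X] at hr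
  have hne : trc a - 2 * r ≠ 0 := fun h => hdisc (by linear_combination (trc a - 2 * r) * h - 4 * hr)
  refine ⟨(trc a - 2 * r)⁻¹ • (a - r • one8), ?_, ?_, ?_⟩
  · rw [app_smul, app_sub, app_smul, ha, app_one8]
  · have : trc (one8 : V8) = 2 := by simp [trc, one8]; norm_num
    rw [map_smul, map_sub, map_smul, this, smul_eq_mul, smul_eq_mul, mul_comm r 2, inv_mul_cancel₀ hne]
  · rw [nrm_smul, sub_eq_add_neg a, ← neg_smul, nrm_add, nrm_smul, nrm_one, map_smul, smul_eq_mul,
      show pol a one8 = trc a by simp [pol, one8, trc]]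
    rw [show nrm a + -r * -r * 1 + -r * trc a = 0 by linear_combination hr, mul_zero]

end Fixed

section Unipotent

/-- A nilpotent matrix vanishes at the power of its size. -/
theorem nilpotent_pow_card {K : Type*} [Field K] (n : ℕ) (N : Matrix (Fin n) (Fin n) K) (hnil : IsNilpotent N) :
    N ^ n = 0 := by
  have h := Matrix.isNilpotent_charpoly_sub_pow_of_isNilpotent hnil
  rw [isNilpotent_iff_eq_zero, sub_eq_zero] at h
  have := Matrix.aeval_self_charpoly N
  rwa [h, map_pow, aeval_X, Fintype.card_fin] at this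

variable {F : Type*} [Field F] {p : ℕ} [Fact p.Prime] [CharP F p]

theorem unipotent_bound (q : ℕ) (u : G2 F) {k : ℕ} (hu : u ^ p ^ k = 1) (hdet : (mat u).det = 1) :
    ∃ N ∈ allowed p q, u ^ N = 1 := by
  have hp : p.Prime := Fact.out
  obtain ⟨N, hN⟩ : ∃ N : Matrix (Fin 8) (Fin 8) F, N = mat u - 1 := ⟨_, rfl⟩
  have hmat : ∀ i, mat (u ^ i) = mat u ^ i := fun i => by
    simp [mat]
  have hpowi : ∀ j, N ^ p ^ j = mat (u ^ p ^ j) - 1 := fun j => by
    rw [hN, sub_pow_char_pow_of_commute p j (Commute.one_right _), one_pow, hmat]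
  have hnil : IsNilpotent N := ⟨p ^ k, by rw [hpowi, hu]; simp [mat]⟩
  have hone : ∀ j, N ^ p ^ j = 0 → u ^ p ^ j = 1 := fun j h => by
    rw [hpowi, sub_eq_zero] at h
    exact Subtype.ext (Units.ext h)
  have h8 : N ^ 8 = 0 := nilpotent_pow_card 8 N hnil
  by_cases h2 : p = 2
  · subst h2
    have h23 : (2 : ℕ) ^ 3 = 8 := by norm_num
    refine ⟨8, (mem_allowed_two q).1, ?_⟩
    have h := hone 3 ((congrArg (fun i : ℕ => N ^ i) h23).trans h8)
    exact (congrArg (fun i : ℕ => u ^ i) h23.symm).trans h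
  by_cases h7 : p < 7
  · have h35 : p = 3 ∨ p = 5 := by
      have := hp.two_le
      interval_cases p <;> first | omega | exact absurd hp (by norm_num)
    refine ⟨p ^ 2, ?_, hone 2 (pow_eq_zero_of_le (by rcases h35 with rfl | rfl <;> norm_num) h8)⟩
    simp [allowed, h2, h35]
  refine ⟨p * (q + 1), (mem_allowed_mul p q).1, ?_⟩
  suffices h : N ^ 7 = 0 by
    rw [pow_mul, show u ^ p = 1 by simpa using hone 1 (pow_eq_zero_of_le (by rw [pow_one]; omega) h), one_pow]
  let ι : (Fin 7 → F) →ₗ[F] (Fin 8 → F) :=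
    { toFun := fun y => ![y 0, y 1, y 2, y 3, y 4, y 5, y 6, -y 0]
      map_add' := fun a b => by funext i; fin_cases i <;> simp <;> ring
      map_smul' := fun c a => by funext i; fin_cases i <;> simp }
  let π : (Fin 8 → F) →ₗ[F] (Fin 7 → F) :=
    { toFun := fun x => ![x 0, x 1, x 2, x 3, x 4, x 5, x 6]
      map_add' := fun a b => by funext i; fin_cases i <;> simp
      map_smul' := fun c a => by funext i; fin_cases i <;> simp }
  let M : Matrix (Fin 7) (Fin 7) F := LinearMap.toMatrix' (π ∘ₗ Matrix.toLin' N ∘ₗ ι)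
  have htr : ∀ x : Fin 8 → F, trc (N *ᵥ x) = 0 := fun x => by
    rw [hN, Matrix.sub_mulVec, Matrix.one_mulVec, map_sub, ← app_eq, (invariants u x).1, sub_self]
  have hιπ : ∀ x : Fin 8 → F, trc x = 0 → ι (π x) = x := fun x hx => by
    rw [trc_apply] at hx
    funext i
    fin_cases i <;> simp [ι, π]
    linear_combination -hx
  have hM : ∀ j y, ι ((M ^ j) *ᵥ y) = (N ^ j) *ᵥ ι y := fun j => by
    induction j with
    | zero => simp
    | succ j ih =>
      intro y
      rw [pow_succ, pow_succ, ← Matrix.mulVec_mulVec, ← Matrix.mulVec_mulVec, ih]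
      congr 1
      simp only [M, LinearMap.toMatrix'_mulVec, LinearMap.comp_apply, Matrix.toLin'_apply]
      exact hιπ _ (htr _)
  have hι : Function.Injective ι := fun a b h => by
    funext i
    fin_cases i
    exacts [congrFun h 0, congrFun h 1, congrFun h 2, congrFun h 3, congrFun h 4, congrFun h 5, congrFun h 6]
  have hMn : IsNilpotent M := by
    refine ⟨8, Matrix.ext_iff_mulVec.2 fun y => hι ?_⟩
    rw [hM, h8]; simp
  have h7' : M ^ 7 = 0 := nilpotent_pow_card 7 M hMn
  refine Matrix.ext_iff_mulVec.2 fun x => ?_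
  have h2' : (2 : F) ≠ 0 := fun h => h2 ((Nat.prime_dvd_prime_iff_eq hp Nat.prime_two).1
    ((CharP.cast_eq_zero_iff F p 2).1 (by exact_mod_cast h)))
  have h1 : N *ᵥ (one8 : Fin 8 → F) = 0 := by
    rw [hN, Matrix.sub_mulVec, Matrix.one_mulVec, ← app_eq, app_one8, sub_self]
  have hx : x = ι (π (x - (trc x / 2) • one8)) + (trc x / 2) • one8 := by
    rw [hιπ _ (by rw [map_sub, map_smul, smul_eq_mul, show trc (one8 : Fin 8 → F) = 2 by simp [trc, one8]; norm_num,
      div_mul_cancel₀ _ h2', sub_self]), sub_add_cancel]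
  rw [Matrix.zero_mulVec, hx, Matrix.mulVec_add, ← hM, h7', Matrix.zero_mulVec, map_zero, zero_add,
    Matrix.mulVec_smul, pow_succ, ← Matrix.mulVec_mulVec, h1, Matrix.mulVec_zero, smul_zero]

end Unipotent


end CfsgLib.G2Spec
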