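import Cfsg.Agent.Lib.GTwoSpec.Fixed

/-!
Characteristic polynomials and diagonal forms for the stabiliser of an idempotent.
-/

set_option autoImplicit false
set_option linter.unusedSectionVars false

namespace CfsgLib.G2Spec

open Matrix Polynomial Cfsg.Lie CfsgLib.OctG2 CfsgLib.NormalCover.OctEven

section Torus

variable {L : Type*} [Field L]

local notation "M3" => Matrix (Fin 3) (Fin 3) L

/-- Coordinates by blocks. -/
def blocks : Fin 2 ⊕ (Fin 3 ⊕ Fin 3) ≃ Fin 8 where
  toFun := Sum.elim ![0, 7] (Sum.elim ![1, 2, 3] ![4, 5, 6])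
  invFun := ![Sum.inl 0, Sum.inr (Sum.inl 0), Sum.inr (Sum.inl 1), Sum.inr (Sum.inl 2),
    Sum.inr (Sum.inr 0), Sum.inr (Sum.inr 1), Sum.inr (Sum.inr 2), Sum.inl 1]
  left_inv := by decide
  right_inv := by decide

theorem charpoly_slLin (A : M3) :
    (LinearMap.toMatrix' (slLin A)).charpoly = (X - Polynomial.C 1) ^ 2 * (A.charpoly * A.adjugateᵀ.charpoly) := by
  rw [← Matrix.charpoly_reindex blocks.symm]
  have : Matrix.reindex blocks.symm blocks.symm (LinearMap.toMatrix' (slLin A)) =
      Matrix.fromBlocks (1 : Matrix (Fin 2) (Fin 2) L) 0 0 (Matrix.fromBlocks A 0 0 A.adjugateᵀ) := by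
    ext i j
    rcases i with i | i | i <;> rcases j with j | j | j <;> fin_cases i <;> fin_cases j <;>
      simp [blocks, slLin, LinearMap.toMatrix'_apply, zA, zB, Matrix.mulVec, dotProduct, Fin.sum_univ_three]
  rw [this, Matrix.charpoly_fromBlocks_zero₁₂, Matrix.charpoly_fromBlocks_zero₁₂, Matrix.charpoly_one]
  simp

theorem exists_roots [IsAlgClosed L] (A : M3) (hA : A.det = 1) :
    ∃ a b c : L, a * b * c = 1 ∧ A.charpoly = (X - Polynomial.C a) * (X - Polynomial.C b) * (X - Polynomial.C c) ∧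
      A.adjugateᵀ.charpoly =
        (X - Polynomial.C (b * c)) * (X - Polynomial.C (c * a)) * (X - Polynomial.C (a * b)) := by
  have hs : A.charpoly.Splits := IsAlgClosed.splits _
  have hprod := hs.eq_prod_roots_of_monic A.charpoly_monic
  have hcard : A.charpoly.roots.card = 3 := by
    rw [← hs.natDegree_eq_card_roots, Matrix.charpoly_natDegree_eq_dim, Fintype.card_fin]
  obtain ⟨a, b, c, habc⟩ := Multiset.card_eq_three.1 hcard
  rw [habc] at hprod
  simp only [Multiset.insert_eq_cons, Multiset.map_cons, Multiset.map_singleton, Multiset.prod_cons,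
    Multiset.prod_singleton] at hprod
  rw [← mul_assoc] at hprod
  have heval : ∀ x : L, ((Matrix.scalar (Fin 3) x) - A).det = (x - a) * (x - b) * (x - c) := fun x => by
    rw [← Matrix.eval_charpoly, hprod]; simp
  have h1 : a * b * c = 1 := by
    have := heval 0
    simp [Matrix.det_neg, hA] at this
    linear_combination this
  refine ⟨a, b, c, h1, hprod, ?_⟩
  rw [Matrix.charpoly_transpose]
  have : Infinite L := IsAlgClosed.instInfinite
  refine Polynomial.funext fun x => ?_
  rw [Matrix.eval_charpoly]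
  simp only [eval_mul, eval_sub, eval_X, eval_C]
  by_cases hx : x = 0
  · subst hx
    simp [Matrix.det_neg, Matrix.det_adjugate, hA]
    linear_combination (a * b * c + 1) * h1
  · have e : Matrix.scalar (Fin 3) x - A.adjugate = (-x) • (A.adjugate * (Matrix.scalar (Fin 3) x⁻¹ - A)) := by
      rw [Matrix.mul_sub, adjugate_mul, hA, one_smul, smul_sub, Matrix.scalar_apply, Matrix.scalar_apply,
        ← Matrix.smul_one_eq_diagonal, ← Matrix.smul_one_eq_diagonal, Matrix.mul_smul, mul_one, smul_smul,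
        neg_mul, mul_inv_cancel₀ hx]
      ext i j
      simp
      ring
    rw [e, det_smul, det_mul, det_adjugate, hA, heval]
    simp
    field_simp
    linear_combination (x ^ 3 - x * (a + b + c) + a * b * c + 1) * h1

theorem roots_slLin [IsAlgClosed L] (A : M3) (hA : A.det = 1) :
    ∃ a b c : L, a * b * c = 1 ∧ A.charpoly = (X - Polynomial.C a) * (X - Polynomial.C b) * (X - Polynomial.C c) ∧
      (LinearMap.toMatrix' (slLin A)).charpoly.roots = {1, 1, a, b, c, b * c, c * a, a * b} := by
  obtain ⟨a, b, c, h, h1, h2⟩ := exists_roots A hA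
  refine ⟨a, b, c, h, h1, ?_⟩
  have : (LinearMap.toMatrix' (slLin A)).charpoly =
      (({1, 1, a, b, c, b * c, c * a, a * b} : Multiset L).map fun r => X - Polynomial.C r).prod := by
    rw [charpoly_slLin, h1, h2]
    simp only [Multiset.insert_eq_cons, Multiset.map_cons, Multiset.map_singleton, Multiset.prod_cons,
      Multiset.prod_singleton]
    ring
  rw [this, Polynomial.roots_multiset_prod_X_sub_C]

theorem roots_stable {F : Type*} [Field F] [Fintype F] [IsAlgClosed L] (f : F →+* L) {p n : ℕ} [Fact p.Prime]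
    [CharP L p] (hq : Fintype.card F = p ^ n) (M : Matrix (Fin 8) (Fin 8) F) :
    (M.map f).charpoly.roots.map (fun x => x ^ Fintype.card F) = (M.map f).charpoly.roots := by
  obtain ⟨σ, hσ⟩ : ∃ σ : L →+* L, ∀ x, σ x = x ^ Fintype.card F :=
    ⟨iterateFrobenius L p n, fun x => by rw [iterateFrobenius_def, hq]⟩
  have hfix : σ.comp f = f := RingHom.ext fun x => by
    rw [RingHom.comp_apply, hσ, ← map_pow, FiniteField.pow_card]
  have h : ((M.map f).charpoly).map σ = (M.map f).charpoly := by
    rw [Matrix.charpoly_map, Polynomial.map_map, hfix]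
  conv_rhs => rw [← h, (IsAlgClosed.splits (M.map f).charpoly).roots_map σ]
  exact Multiset.map_congr rfl fun x _ => (hσ x).symm

theorem conj_charpoly {g h : G2 L} {A : M3} (hA : ∀ x, app (h * g * h⁻¹) x = slLin A x) :
    (mat g).charpoly = (LinearMap.toMatrix' (slLin A)).charpoly := by
  have e : LinearMap.toMatrix' (slLin A) = mat (h * g * h⁻¹) := by
    refine Matrix.ext_iff_mulVec.2 fun x => ?_
    rw [LinearMap.toMatrix'_mulVec, ← app_eq, hA]
  have e' : mat (h * g * h⁻¹) = ((h : GL (Fin 8) L) : Matrix (Fin 8) (Fin 8) L) * mat g *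
      (((h : GL (Fin 8) L)⁻¹ : GL (Fin 8) L) : Matrix (Fin 8) (Fin 8) L) := by
    simp only [mat, Subgroup.coe_mul, InvMemClass.coe_inv, Units.val_mul]
  rw [e, e', Matrix.coe_units_inv, Matrix.charpoly_units_conj]

theorem slLin_pow (A : M3) : ∀ (g : G2 L), (∀ x, app g x = slLin A x) → ∀ (i : ℕ) x, app (g ^ i) x = slLin (A ^ i) x
  | g, hg, 0, x => by rw [pow_zero, pow_zero, app_one, slLin_one]
  | g, hg, i + 1, x => by rw [pow_succ, pow_succ, app_mul, hg, slLin_pow A g hg i, slLin_comp]

/-- A semisimple element of `SL₃` with eigenvalue one. -/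
theorem exists_diag [IsAlgClosed L] {S : M3} (hdet : S.det = 1) {m : ℕ} (hm : (m : L) ≠ 0) (hS : S ^ m = 1)
    (h1 : (S - 1).det = 0) (hne : S ≠ 1) :
    ∃ (C : M3) (b : L), C.det = 1 ∧ b ≠ 0 ∧ b ≠ 1 ∧ S * C = C * Matrix.diagonal ![1, b, b⁻¹] := by
  classical
  let f : Module.End L (Fin 3 → L) := Matrix.toLin' S
  have hm0 : m ≠ 0 := fun h => hm (by simp [h])
  have hf : f.IsSemisimple := by
    refine Module.End.isSemisimple_of_squarefree_aeval_eq_zero
      (p := (X : L[X]) ^ m - Polynomial.C 1) ((Polynomial.separable_X_pow_sub_C 1 hm one_ne_zero).squarefree) ?_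
    rw [map_sub, map_pow, aeval_X, aeval_C, map_one]
    show f ^ m - 1 = 0
    rw [sub_eq_zero, ← Matrix.toLin'_pow, hS, Matrix.toLin'_one]
    rfl
  obtain ⟨t, ht⟩ : ∃ t : Set (Fin 3 → L), t = {v | ∃ μ : L, S *ᵥ v = μ • v} := ⟨_, rfl⟩
  have hspan : Submodule.span L t = ⊤ := by
    rw [eq_top_iff, ← hf.iSup_eigenspace_eq_top]
    refine iSup_le fun μ v hv => Submodule.subset_span ?_
    rw [ht]
    exact ⟨μ, by simpa [f, Matrix.toLin'_apply] using Module.End.mem_eigenspace_iff.1 hv⟩
  obtain ⟨B, hBt, hBspan, hBli⟩ := exists_linearIndependent L t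
  rw [hspan] at hBspan
  let bs : Module.Basis B L (Fin 3 → L) := Module.Basis.mk hBli (by rw [Subtype.range_coe, hBspan])
  have : Fintype B := FiniteDimensional.fintypeBasisIndex bs
  have hcard : Fintype.card B = 3 := by
    rw [← Module.finrank_eq_card_basis bs, Module.finrank_fin_fun]
  obtain ⟨e⟩ : Nonempty (Fin 3 ≃ B) := ⟨(Fintype.equivFinOfCardEq hcard).symm⟩
  have hμ : ∀ i : Fin 3, ∃ μ : L, S *ᵥ (e i).1 = μ • (e i).1 := fun i => by
    have := hBt (e i).2; rw [ht] at this; exact this
  choose μ hμ using hμ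
  obtain ⟨C, hC⟩ : ∃ C : M3, C = Matrix.of fun i j => (e j).1 i := ⟨_, rfl⟩
  have hC0 : C.det ≠ 0 := by
    refine ((Matrix.isUnit_iff_isUnit_det C).1 (Matrix.linearIndependent_cols_iff_isUnit.1 ?_)).ne_zero
    rw [show C.col = fun j => (e j).1 by funext j i; simp [hC, Matrix.col]]
    exact hBli.comp e e.injective
  have hSC : S * C = C * Matrix.diagonal μ := by
    ext i j
    have := congrFun (hμ j) i
    rw [Matrix.mul_diagonal, Matrix.mul_apply]
    simp only [Matrix.mulVec, dotProduct, Pi.smul_apply, smul_eq_mul] at this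
    simp only [hC, Matrix.of_apply]
    rw [this, mul_comm]
  have hprod : μ 0 * μ 1 * μ 2 = 1 := by
    have := congrArg Matrix.det hSC
    rw [det_mul, det_mul, hdet, one_mul, det_diagonal, Fin.prod_univ_three] at this
    exact mul_left_cancel₀ hC0 (by rw [mul_one, ← this])
  obtain ⟨i, hi⟩ : ∃ i, μ i = 1 := by
    have e1 : (S - 1) * C = C * (Matrix.diagonal μ - 1) := by rw [sub_mul, mul_sub, hSC, one_mul, mul_one]
    have := congrArg Matrix.det e1
    rw [det_mul, det_mul, h1, zero_mul, eq_comm, mul_eq_zero] at this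
    have h' := this.resolve_left hC0
    rw [← Matrix.diagonal_one, Matrix.diagonal_sub, det_diagonal, Finset.prod_eq_zero_iff] at h'
    obtain ⟨i, -, hi⟩ := h'
    exact ⟨i, sub_eq_zero.1 hi⟩
  let σ : Equiv.Perm (Fin 3) := Equiv.swap 0 i
  obtain ⟨C', hC'⟩ : ∃ C' : M3, C' = C.submatrix id σ := ⟨_, rfl⟩
  have hSC' : S * C' = C' * Matrix.diagonal (μ ∘ σ) := by
    ext a j
    have := congrFun (congrFun hSC a) (σ j)
    rw [Matrix.mul_diagonal] at this ⊢
    simpa [hC', Matrix.mul_apply] using this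
  have hC'0 : C'.det ≠ 0 := by
    rw [hC', Matrix.det_permute']
    refine mul_ne_zero ?_ hC0
    rcases Int.units_eq_one_or (Equiv.Perm.sign σ) with h | h <;> simp [h]
  have h0 : μ (σ 0) = 1 := by simp [σ, hi]
  have hp : μ (σ 1) * μ (σ 2) = 1 := by
    have := Equiv.prod_comp σ μ
    rw [Fin.prod_univ_three, Fin.prod_univ_three, h0, one_mul, hprod] at this
    exact this
  have hd : μ ∘ σ = ![1, μ (σ 1), (μ (σ 1))⁻¹] := by
    funext j
    fin_cases j <;> simp [h0]
    exact eq_inv_of_mul_eq_one_right hp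
  refine ⟨C' * Matrix.diagonal ![C'.det⁻¹, 1, 1], μ (σ 1), ?_, left_ne_zero_of_mul_eq_one hp, fun hb => hne ?_, ?_⟩
  · rw [det_mul, det_diagonal, Fin.prod_univ_three]
    simp [hC'0]
  · rw [hd, hb, inv_one, show Matrix.diagonal ![(1 : L), 1, 1] = 1 by
      ext a c; fin_cases a <;> fin_cases c <;> simp, mul_one] at hSC'
    have : IsUnit C' := (Matrix.isUnit_iff_isUnit_det C').2 hC'0.isUnit
    exact this.mul_right_cancel (by rw [hSC', one_mul])
  · rw [← mul_assoc, hSC', hd, mul_assoc, mul_assoc, Matrix.diagonal_mul_diagonal, Matrix.diagonal_mul_diagonal]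
    simp only [mul_comm]

/-- The trace of the adjugate determines whether one is an eigenvalue. -/
theorem det_sub_one {S : M3} (hdet : S.det = 1) (h : S.adjugate.trace = S.trace) : (S - 1).det = 0 := by
  rw [det_fin_three] at hdet
  simp [Matrix.trace, Fin.sum_univ_three, adjugate_fin_three] at h
  rw [det_fin_three]
  simp
  linear_combination hdet - h

end Torus


end CfsgLib.G2Spec
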