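import Cfsg.Agent.Lib.GTwoSpec.SLThree

/-!
A bound on the orders of the elements of determinant one of the automorphism group of the split
octonions over a finite field.
-/

set_option autoImplicit false
set_option maxRecDepth 100000
set_option linter.unusedSectionVars false

namespace CfsgLib.G2Spec

open Matrix Polynomial Cfsg.Lie CfsgLib.OctG2 CfsgLib.NormalCover.OctEven

section Main

variable {F : Type*} [Field F] [Fintype F] {p n : ℕ} [Fact p.Prime] [CharP F p]

/-- The orders of the elements of determinant one. -/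
theorem order_bound (hq : Fintype.card F = p ^ n) (hn : n ≠ 0) (g : G2 F)
    (hdet : ((g : GL (Fin 8) F) : Matrix (Fin 8) (Fin 8) F).det = 1) :
    ∃ N ∈ allowed p (Fintype.card F), g ^ N = 1 := by
  classical
  obtain ⟨q, hqd⟩ : ∃ q, q = Fintype.card F := ⟨_, rfl⟩
  rw [← hqd] at hq ⊢
  have hp : p.Prime := Fact.out
  obtain ⟨k, m, hm, hord⟩ := Nat.exists_eq_pow_mul_and_not_dvd (n := orderOf g) (orderOf_pos g).ne' p hp.ne_one
  by_cases hs1 : g ^ p ^ k = 1
  · exact unipotent_bound q g hs1 hdet
  let f := algebraMap F (AlgebraicClosure F)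
  have : CharP (AlgebraicClosure F) p := charP_of_injective_ringHom f.injective p
  have hmL : (m : AlgebraicClosure F) ≠ 0 := fun h => hm ((CharP.cast_eq_zero_iff _ p m).1 h)
  obtain ⟨s, hsd⟩ : ∃ s, s = mapG2 f (g ^ p ^ k) := ⟨_, rfl⟩
  obtain ⟨u, hud⟩ : ∃ u, u = mapG2 f (g ^ m) := ⟨_, rfl⟩
  have hsu : u * s = s * u := by rw [hsd, hud, ← map_mul, ← map_mul, ← pow_add, ← pow_add, add_comm]
  have hsm : s ^ m = 1 := by
    rw [hsd, ← map_pow, ← pow_mul, ← hord, pow_orderOf_eq_one, map_one]
  have hup : u ^ p ^ k = 1 := by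
    rw [hud, ← map_pow, ← pow_mul, mul_comm, ← hord, pow_orderOf_eq_one, map_one]
  have hs_ne : s ≠ 1 := fun h => hs1 (mapG2_injective f (by rw [← hsd, h, map_one]))
  have hdets : (mat s).det = 1 := by
    rw [hsd]
    exact det_mapG2 f _ (by rw [Subgroup.coe_pow, Units.val_pow_eq_pow_val, det_pow, hdet, one_pow])
  obtain ⟨i, j, hij⟩ : ∃ i j : ℤ, (1 : ℤ) = (p ^ k : ℕ) * i + (m : ℕ) * j := by
    refine ⟨Nat.gcdA (p ^ k) m, Nat.gcdB (p ^ k) m, ?_⟩
    rw [← Nat.gcd_eq_gcd_ab, Nat.Coprime.gcd_eq_one ((hp.coprime_iff_not_dvd.2 hm).pow_left k)]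
    rfl
  have hgsu : mapG2 f g = s ^ i * u ^ j := by
    rw [hsd, hud, ← map_zpow, ← map_zpow, ← map_mul, ← zpow_natCast g (p ^ k), ← zpow_natCast g m, ← _root_.zpow_mul,
      ← _root_.zpow_mul, ← _root_.zpow_add, ← hij, zpow_one]
  obtain ⟨w, hw, hwt, hwn⟩ := exists_fixed_idem s hmL hsm hdets
  obtain ⟨h, hh⟩ := exists_to_e0 (by
    obtain ⟨α, hα⟩ := Infinite.exists_notMem_finset ({0, 1} : Finset (AlgebraicClosure F))
    simp only [Finset.mem_insert, Finset.mem_singleton, not_or] at hα
    exact ⟨α, hα⟩) hwt hwn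
  have hhi : app h⁻¹ e0 = w := by rw [← hh, app_inv]
  obtain ⟨S, hSd, hS⟩ := exists_slLin_of_fix (g := h * s * h⁻¹)
    (by rw [app_mul, app_mul, hhi, hw, hh])
  by_cases hS1 : (S - 1).det = 0
  · -- a quaternion subalgebra is fixed
    have hSm : S ^ m = 1 := slLin_injective fun x => by
      rw [← slLin_pow S _ hS m, conj_pow, hsm, mul_one, mul_inv_cancel, app_one, slLin_one]
    have hSne : S ≠ 1 := fun e => hs_ne (by
      have : h * s * h⁻¹ = 1 := app_ext fun x => by rw [hS, e, slLin_one, app_one]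
      exact mul_right_cancel (b := h⁻¹) (mul_left_cancel (a := h) (by rw [← mul_assoc, this, one_mul, mul_inv_cancel])))
    obtain ⟨C, b, hCd, hb0, hb1, hSC⟩ := exists_diag hSd hmL hSm hS1 hSne
    obtain ⟨c, hc⟩ := exists_sl_aut hCd
    obtain ⟨t, htd⟩ : ∃ t, t = c⁻¹ * h := ⟨_, rfl⟩
    have ht : ∀ x, app (t * s * t⁻¹) x = slLin (Matrix.diagonal ![1, b, b⁻¹]) x := fun x => by
      refine app_injective c ?_
      rw [← app_mul, hc, slLin_comp, ← hSC, ← slLin_comp, ← hc, ← hS, ← app_mul, htd]
      congr 1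
      group
    have hfix : ∀ x, app (t * s * t⁻¹) x = x ↔ qY x = 0 := fun x => by
      have hval : slLin (Matrix.diagonal ![1, b, b⁻¹]) x =
          ![x 0, x 1, b * x 2, b⁻¹ * x 3, x 4, b⁻¹ * x 5, b * x 6, x 7] := by
        have hD : (Matrix.diagonal ![1, b, b⁻¹]).adjugateᵀ = Matrix.diagonal ![1, b⁻¹, b] := by
          rw [adjugate_fin_three]
          ext a c; fin_cases a <;> fin_cases c <;> simp [hb0]
        funext a
        fin_cases a <;> simp only [slLin, LinearMap.coe_mk, AddHom.coe_mk, hD] <;> simp [Matrix.mulVec_diagonal]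
      rw [ht, hval]
      have hb1' : b⁻¹ ≠ 1 := fun e => hb1 (inv_eq_one.1 e)
      have hz : ∀ y c : AlgebraicClosure F, c ≠ 1 → c * y = y → y = 0 := fun y c hc e =>
        (mul_eq_zero.1 (show (c - 1) * y = 0 by linear_combination e)).resolve_left (sub_ne_zero.2 hc)
      constructor
      · intro e
        have e2 : x 2 = 0 := hz _ b hb1 (congrFun e 2)
        have e3 : x 3 = 0 := hz _ _ hb1' (congrFun e 3)
        have e5 : x 5 = 0 := hz _ _ hb1' (congrFun e 5)
        have e6 : x 6 = 0 := hz _ b hb1 (congrFun e 6)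
        ext a c
        fin_cases a <;> fin_cases c <;> simp [qY, e2, e3, e5, e6]
      · intro e
        have e2 : x 2 = 0 := by simpa [qY] using congrFun (congrFun e 0) 0
        have e6 : x 6 = 0 := by simpa [qY] using congrFun (congrFun e 0) 1
        have e3 : x 3 = 0 := by simpa [qY] using congrFun (congrFun e 1) 0
        have e5 : x 5 = 0 := by simpa [qY] using congrFun (congrFun e 1) 1
        funext a
        fin_cases a <;> simp [e2, e3, e5, e6]
    have hcomm : (t * u * t⁻¹) * (t * s * t⁻¹) = (t * s * t⁻¹) * (t * u * t⁻¹) := by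
      rw [show t * u * t⁻¹ * (t * s * t⁻¹) = t * (u * s) * t⁻¹ by group, hsu]; group
    obtain ⟨P, hP⟩ := exists_Phi_of_stab (u := t * u * t⁻¹) fun x hx => (hfix _).1 (by
      rw [← app_mul, ← hcomm, app_mul, (hfix x).2 hx])
    have hu1 : u ^ p = 1 := by
      have hP1 : Phi (P ^ p ^ k) = 1 := by rw [map_pow, hP, conj_pow, hup, mul_one, mul_inv_cancel]
      obtain ⟨hBA, l, hl⟩ := eq_of_Phi_one hP1
      have hl' : ((((P ^ p ^ k : C0 (AlgebraicClosure F)) : GL (Fin 2) (AlgebraicClosure F) × GL (Fin 2) (AlgebraicClosure F)).2 :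
          GL (Fin 2) (AlgebraicClosure F)) : Matrix (Fin 2) (Fin 2) (AlgebraicClosure F)) = l • 1 := by rw [hBA, hl]
      obtain ⟨μ, hμ⟩ := IsAlgClosed.exists_pow_nat_eq l (pow_pos hp.pos k)
      simp only [Subgroup.coe_pow, Prod.pow_fst, Prod.pow_snd, Units.val_pow_eq_pow_val] at hl hl'
      have hμ0 : μ ≠ 0 := fun e => by
        rw [e, zero_pow (pow_ne_zero _ hp.ne_zero)] at hμ
        rw [← hμ, zero_smul] at hl
        have := congrArg Matrix.det hl
        rw [det_pow, Matrix.det_zero] at this
        exact ((Matrix.isUnit_iff_isUnit_det _).1 (Units.isUnit _)).ne_zero (eq_zero_of_pow_eq_zero this)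
      have key : ∀ A : Matrix (Fin 2) (Fin 2) (AlgebraicClosure F), A ^ p ^ k = l • 1 → A ^ p = μ ^ p • 1 :=
        fun A hA => by
        have hc : Commute A (μ • 1) := (Commute.one_right A).smul_right μ
        have hnil : IsNilpotent (A - μ • 1) :=
          ⟨p ^ k, by rw [sub_pow_char_pow_of_commute p k hc, hA, _root_.smul_pow, one_pow, hμ, sub_self]⟩
        have h3 : (A - μ • 1) ^ 2 = 0 := nilpotent_pow_card 2 _ hnil
        have h4 : (A - μ • 1) ^ p = 0 := pow_eq_zero_of_le hp.two_le h3
        rwa [sub_pow_char_of_commute p hc, _root_.smul_pow, one_pow, sub_eq_zero] at h4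
      have hPp : Phi (P ^ p) = 1 := Phi_scalar (Units.mk0 _ (pow_ne_zero p hμ0))
        (by simp only [Subgroup.coe_pow, Prod.pow_fst, Units.val_pow_eq_pow_val, Units.val_mk0]; exact key _ hl)
        (by simp only [Subgroup.coe_pow, Prod.pow_snd, Units.val_pow_eq_pow_val, Units.val_mk0]; exact key _ hl')
      rw [map_pow, hP, conj_pow, mul_inv_eq_one] at hPp
      exact mul_eq_left.1 hPp
    have hroots := roots_stable f (p := p) (hqd ▸ hq) (((g ^ p ^ k : G2 F) : GL (Fin 8) F) : Matrix (Fin 8) (Fin 8) F)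
    obtain ⟨a', b', c', -, hchar, hr⟩ := roots_slLin (Matrix.diagonal ![(1 : AlgebraicClosure F), b, b⁻¹])
      (by simp [det_diagonal, Fin.prod_univ_three, hb0])
    have hcp := conj_charpoly (g := s) (h := t) ht
    rw [hsd, mat, coe_mapG2] at hcp
    rw [hcp, ← hqd] at hroots
    have hdiag : ({a', b', c'} : Multiset (AlgebraicClosure F)) = {1, b, b⁻¹} := by
      have h1 := congrArg Polynomial.roots hchar
      rw [Matrix.charpoly_diagonal, Fin.prod_univ_three] at h1
      have hp3 : ∀ x y z : AlgebraicClosure F, (X - Polynomial.C x) * (X - Polynomial.C y) * (X - Polynomial.C z) =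
          (({x, y, z} : Multiset (AlgebraicClosure F)).map fun r => X - Polynomial.C r).prod := fun x y z => by
        simp [mul_assoc]
      simp only [hp3, Polynomial.roots_multiset_prod_X_sub_C, Matrix.cons_val_zero, Matrix.cons_val_one,
        Matrix.cons_val] at h1
      exact h1.symm
    have hbmem : b ∈ ({a', b', c'} : Multiset (AlgebraicClosure F)) := by rw [hdiag]; simp
    obtain ⟨N, hN, hbN, hpN⟩ := pair_bound (L := AlgebraicClosure F) (p := p) hq hb0 hb1 (by
      have hmem : b ^ q ∈ ({1, 1, a', b', c', b' * c', c' * a', a' * b'} : Multiset (AlgebraicClosure F)) := by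
        rw [← hr, ← hroots]
        refine Multiset.mem_map_of_mem _ ?_
        rw [hr]
        simp only [Multiset.insert_eq_cons, Multiset.mem_cons, Multiset.mem_singleton] at hbmem ⊢
        rcases hbmem with h | h | h <;> simp [h]
      have hsub : ∀ x ∈ ({a', b', c'} : Multiset (AlgebraicClosure F)), x = 1 ∨ x = b ∨ x = b⁻¹ := fun x hx => by
        rw [hdiag] at hx; simpa using hx
      have hpr := congrArg Multiset.prod hdiag
      simp only [Multiset.insert_eq_cons, Multiset.prod_cons, Multiset.prod_singleton, one_mul,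
        mul_inv_cancel₀ hb0] at hpr
      have ha := hsub a' (by simp)
      have hb' := hsub b' (by simp)
      have hc' := hsub c' (by simp)
      have i1 : b' * c' = a'⁻¹ := eq_inv_of_mul_eq_one_right hpr
      have i2 : c' * a' = b'⁻¹ := eq_inv_of_mul_eq_one_right (by linear_combination hpr)
      have i3 : a' * b' = c'⁻¹ := eq_inv_of_mul_eq_one_left (by linear_combination hpr)
      rw [i1, i2, i3] at hmem
      simp only [one_mul, mul_one, Multiset.insert_eq_cons, Multiset.mem_cons, Multiset.mem_singleton] at hmem ⊢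
      have hinv : ∀ x, (x = 1 ∨ x = b ∨ x = b⁻¹) → (x⁻¹ = 1 ∨ x⁻¹ = b ∨ x⁻¹ = b⁻¹) := fun x hx => by
        rcases hx with rfl | rfl | rfl <;> simp
      have h1 := hinv a' ha
      have h2 := hinv b' hb'
      have h3 := hinv c' hc'
      generalize b ^ q = y at hmem ⊢
      suffices hy : y = 1 ∨ y = b ∨ y = b⁻¹ by rcases hy with e | e | e <;> simp [e]
      rcases hmem with e | e | e | e | e | e | e | e <;> rw [e] <;> first | assumption | exact Or.inl rfl)
    refine ⟨N, hN, mapG2_injective f ?_⟩
    have hsN : s ^ N = 1 := by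
      have h1 : (t * s * t⁻¹) ^ N = 1 := app_ext fun x => by
        rw [slLin_pow _ _ ht, Matrix.diagonal_pow, app_one, show ![(1 : AlgebraicClosure F), b, b⁻¹] ^ N = fun _ => 1 by
          funext a; fin_cases a <;> simp [hbN], Matrix.diagonal_one, slLin_one]
      rwa [conj_pow, mul_inv_eq_one, mul_eq_left] at h1
    have huN : u ^ N = 1 := by
      obtain ⟨r, rfl⟩ := hpN
      rw [pow_mul, hu1, one_pow]
    have hcsu : Commute (s ^ i) (u ^ j) := (show Commute s u from hsu.symm).zpow_zpow i j
    rw [map_pow, map_one, hgsu, hcsu.mul_pow, ← zpow_natCast, ← _root_.zpow_mul, mul_comm i, _root_.zpow_mul, zpow_natCast, hsN,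
      _root_.one_zpow, one_mul, ← zpow_natCast, ← _root_.zpow_mul, mul_comm j, _root_.zpow_mul, zpow_natCast, huN, _root_.one_zpow]
  · -- the element lies in SL₃
    obtain ⟨hiu, hhiu⟩ : ∃ hiu, hiu = h * u * h⁻¹ := ⟨_, rfl⟩
    have hcomm : hiu * (h * s * h⁻¹) = (h * s * h⁻¹) * hiu := by
      rw [hhiu, show h * u * h⁻¹ * (h * s * h⁻¹) = h * (u * s) * h⁻¹ by group, hsu]; group
    have hSu : (S - 1)ᵀ.det ≠ 0 := by rw [det_transpose]; exact hS1
    have hfixed : ∀ x : Fin 8 → AlgebraicClosure F, slLin S x = x → x = x 0 • e0 + x 7 • e7 := fun x hx => by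
      have hA : (S - 1) *ᵥ zA _ x = 0 := by
        rw [Matrix.sub_mulVec, Matrix.one_mulVec, sub_eq_zero]
        funext a
        fin_cases a
        exacts [congrFun hx 1, congrFun hx 2, congrFun hx 3]
      have hB : (S - 1)ᵀ *ᵥ zB _ x = 0 := by
        have e1 : S.adjugateᵀ *ᵥ zB _ x = zB _ x := by
          funext a
          fin_cases a
          exacts [congrFun hx 4, congrFun hx 5, congrFun hx 6]
        have e2 : Sᵀ * S.adjugateᵀ = 1 := by rw [← Matrix.transpose_mul, adjugate_mul, hSd, one_smul, transpose_one]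
        rw [Matrix.transpose_sub, transpose_one, Matrix.sub_mulVec, Matrix.one_mulVec, sub_eq_zero]
        conv_lhs => rw [← e1, Matrix.mulVec_mulVec, e2, Matrix.one_mulVec]
      have a0 : zA _ x = 0 := Matrix.eq_zero_of_mulVec_eq_zero hS1 hA
      have b0 : zB _ x = 0 := Matrix.eq_zero_of_mulVec_eq_zero hSu hB
      funext a
      fin_cases a
      · simp [e0, e7]
      · simpa [e0, e7] using congrFun a0 0
      · simpa [e0, e7] using congrFun a0 1
      · simpa [e0, e7] using congrFun a0 2
      · simpa [e0, e7] using congrFun b0 0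
      · simpa [e0, e7] using congrFun b0 1
      · simpa [e0, e7] using congrFun b0 2
      · simp [e0, e7]
    obtain ⟨y, hy⟩ : ∃ y, y = app hiu e0 := ⟨_, rfl⟩
    have hyfix : slLin S y = y := by
      rw [hy, ← hS, ← app_mul, ← hcomm, app_mul]
      congr 1
      rw [hS]
      funext a
      fin_cases a <;> simp [slLin, e0, Matrix.mulVec, dotProduct, zA, zB, Fin.sum_univ_three]
    have hy' := hfixed y hyfix
    have hyu : app hiu e0 = e0 := by
      have hty : y 0 + y 7 = 1 := by
        rw [← trc_apply, hy, (invariants _ _).1]; simp [trc, e0]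
      have hny : y 0 * y 7 = 0 := by
        have := (invariants hiu e0).2
        rw [← hy] at this
        rw [hy'] at this
        simpa [nrm, e0, e7, dot3, zA, zB] using this
      rcases mul_eq_zero.1 hny with h0 | h7
      · -- the swap of the idempotents forces the eigenvalue one
        exfalso
        have hy7 : app hiu e0 = e7 := by
          rw [← hy, hy', h0, show y 7 = 1 by linear_combination hty - h0, zero_smul, one_smul, zero_add]
        have hy0 : app hiu e7 = e0 := by
          rw [e7_eq, app_sub, app_one8, hy7, e7_eq, sub_sub_cancel]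
        obtain ⟨B, hB⟩ : ∃ B : Matrix (Fin 3) (Fin 3) (AlgebraicClosure F),
            B = Matrix.of fun a c => zB _ (app hiu (inA (Pi.single c 1))) a := ⟨_, rfl⟩
        have hmove : ∀ v, app hiu (inA v) = inB (zB _ (app hiu (inA v))) := fun v => by
          conv_lhs => rw [← zA_inA v, inA_eq, app_zornMul, app_zornMul, hy7, hy0]
          rw [← inB_eq]
        have hBv : ∀ v, app hiu (inA v) = inB (B *ᵥ v) := fun v => by
          rw [hmove v]
          congr 1
          have hlin : v = v 0 • Pi.single 0 1 + v 1 • Pi.single 1 1 + v 2 • Pi.single 2 1 := by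
            funext a; fin_cases a <;> simp
          have hin : inA v = v 0 • inA (Pi.single 0 1) + v 1 • inA (Pi.single 1 1) + v 2 • inA (Pi.single 2 1) := by
            funext a; fin_cases a <;> simp [inA, Pi.single_apply]
          rw [hin, app_add, app_add, app_smul, app_smul, app_smul]
          funext a
          fin_cases a <;> simp [hB, zB, Matrix.mulVec, dotProduct, Fin.sum_univ_three] <;> ring
        have hB0 : B.det ≠ 0 := fun hd => by
          obtain ⟨v, hv0, hv⟩ := Matrix.exists_mulVec_eq_zero_iff.2 hd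
          have := hBv v
          rw [hv] at this
          have hz : inB (0 : Fin 3 → AlgebraicClosure F) = 0 := by funext a; fin_cases a <;> simp [inB]
          rw [hz, show (0 : Fin 8 → AlgebraicClosure F) = app hiu 0 from (Matrix.mulVec_zero _).symm] at this
          have := app_injective hiu this
          exact hv0 (by rw [← zA_inA v, this]; funext a; fin_cases a <;> simp)
        have hBS : B * S = S.adjugateᵀ * B := Matrix.ext_iff_mulVec.2 fun v => by
          have e1 : app (hiu * (h * s * h⁻¹)) (inA v) = inB ((B * S) *ᵥ v) := by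
            rw [app_mul, hS, show slLin S (inA v) = inA (S *ᵥ v) by
              funext a; fin_cases a <;> simp [slLin, inA, zA, zB, Matrix.mulVec, dotProduct, Fin.sum_univ_three],
              hBv, Matrix.mulVec_mulVec]
          have e2 : app ((h * s * h⁻¹) * hiu) (inA v) = inB ((S.adjugateᵀ * B) *ᵥ v) := by
            rw [app_mul, hBv, hS, ← Matrix.mulVec_mulVec]
            funext a; fin_cases a <;> simp [slLin, inB, zA, zB, Matrix.mulVec, dotProduct, Fin.sum_univ_three]
          rw [hcomm, e2] at e1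
          rw [← zB_inB ((B * S) *ᵥ v), ← e1, zB_inB]
        refine hS1 (det_sub_one hSd ?_)
        have hunit : IsUnit B := (Matrix.isUnit_iff_isUnit_det B).2 hB0.isUnit
        obtain ⟨Bu, rfl⟩ := hunit
        have : S.adjugateᵀ = (Bu : Matrix _ _ (AlgebraicClosure F)) * S * ((Bu⁻¹ : (Matrix (Fin 3) (Fin 3) (AlgebraicClosure F))ˣ) : Matrix (Fin 3) (Fin 3) (AlgebraicClosure F)) := by
          rw [hBS, mul_assoc, Units.mul_inv, mul_one]
        rw [← Matrix.trace_transpose, this, Matrix.trace_mul_comm, ← mul_assoc, Units.inv_mul, one_mul]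
      · rw [← hy, hy', h7, show y 0 = 1 by linear_combination hty - h7, zero_smul, one_smul, add_zero]
    obtain ⟨G, hGd⟩ : ∃ G : Subgroup (G2 (AlgebraicClosure F)), G.carrier = {x | app x e0 = e0} :=
      ⟨{ carrier := {x | app x e0 = e0}
         one_mem' := app_one _
         mul_mem' := fun {a b} ha hb => by show app (a * b) e0 = e0; rw [app_mul, hb, ha]
         inv_mem' := fun {a} ha => by
           show app a⁻¹ e0 = e0
           conv_lhs => rw [← ha, app_inv] }, rfl⟩
    have hmemG : ∀ x, x ∈ G ↔ app x e0 = e0 := fun x => by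
      show x ∈ G.carrier ↔ _; rw [hGd]; rfl
    obtain ⟨A, hAd, hA⟩ := exists_slLin_of_fix (g := h * mapG2 f g * h⁻¹) ((hmemG _).1 (by
      rw [hgsu, ← conj_mul, ← conj_zpow, ← conj_zpow]
      refine mul_mem (zpow_mem ((hmemG _).2 ?_) _) (zpow_mem ((hmemG _).2 ?_) _)
      · rw [app_mul, app_mul, hhi, hw, hh]
      · rw [← hhiu]; exact hyu))
    obtain ⟨a, b, c, habc, hchar, hr⟩ := roots_slLin A hAd
    have hroots := roots_stable f (p := p) (hqd ▸ hq) (((g : G2 F) : GL (Fin 8) F) : Matrix (Fin 8) (Fin 8) F)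
    have hcp := conj_charpoly (g := mapG2 f g) (h := h) hA
    rw [mat, coe_mapG2] at hcp
    rw [hcp, ← hqd, hr] at hroots
    obtain ⟨e, k', ⟨N, hN, hdvd⟩, hdiv⟩ := roots_bound (p := p) hq hn habc hroots
    refine ⟨N, hN, mapG2_injective f ?_⟩
    have hA1 : A ^ (e * p ^ k') = 1 := by
      obtain ⟨R, hR⟩ := hdiv
      have := congrArg (aeval A) hR
      rwa [map_sub, map_pow, aeval_X, map_one, map_mul, ← hchar, Matrix.aeval_self_charpoly, zero_mul,
        sub_eq_zero] at this
    obtain ⟨r, rfl⟩ := hdvd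
    have : (h * mapG2 f g * h⁻¹) ^ (e * p ^ k') = 1 := app_ext fun x => by
      rw [slLin_pow A _ hA, hA1, slLin_one, app_one]
    rw [conj_pow, mul_inv_eq_one, mul_eq_left] at this
    rw [map_pow, map_one, pow_mul, this, one_pow]

end Main

end CfsgLib.G2Spec
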