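import Cfsg.Agent.Lib.GTwoSpec.Semisimple
import Cfsg.Agent.Lib.Structure.GTwoInvolution
import Cfsg.Agent.Lib.Schur.SLTwo
import Cfsg.Agent.Lib.SpecLin.PSLOrders
import Cfsg.Agent.Lib.Spectrum.Basic
import Cfsg.Agent.S2371

/-!
Elements of the maximal orders in the Chevalley group of type G2, and the bound for its element orders.
-/

set_option autoImplicit false
set_option linter.unusedSectionVars false

namespace CfsgLib.G2Spec

open Cfsg.Lie CfsgLib.ChevStr CfsgLib.ChevStr.ChevCore Matrix CfsgLib.GTwoInv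
open scoped MatrixGroups

section Small

/-- The product modulo `m`. -/
def mulR (m : ℕ) (A B : List Tm) : List Tm :=
  (normT (mulT A B)).filterMap fun a => if a.c % (m : ℤ) = 0 then none else some ⟨0, a.i, a.j, a.c % (m : ℤ)⟩

/-- The power modulo `m`. -/
def powR (m : ℕ) (A : List Tm) : ℕ → List Tm
  | 0 => oneT
  | k + 1 => mulR m (powR m A k) A

/-- The word modulo `m`. -/
def wordR (m : ℕ) : List (Fin 12) → List Tm
  | [] => oneT
  | r :: l => mulR m (xT r.val) (wordR m l)

/-- Equality with the identity modulo `m`. -/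
def isOneR (m : ℕ) (A : List Tm) : Bool :=
  (List.finRange 8).all fun i => (List.finRange 8).all fun j =>
    decide ((entryT A i j - if i = j then 1 else 0) % (m : ℤ) = 0)

variable {F : Type*} [Field F] {p : ℕ} [CharP F p]

theorem evalT_one_entry (i j : Fin 8) : ∀ A : List Tm, evalT (1 : F) A i j = ((entryT A i j : ℤ) : F)
  | [] => by simp [evalT, entryT]
  | a :: A => by
    rw [evalT, Matrix.add_apply, evalT_one_entry i j A, Tm.val, Matrix.single_apply, entryT, Int.cast_add,
      one_pow, mul_one]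
    split_ifs <;> simp

theorem cast_emod (c : ℤ) : ((c % (p : ℤ) : ℤ) : F) = (c : F) := by
  conv_rhs => rw [← Int.emod_add_mul_ediv c p]
  simp

theorem evalT_mulR (A B : List Tm) : evalT (1 : F) (mulR p A B) = evalT 1 A * evalT 1 B := by
  rw [← evalT_mulT, ← evalT_normT (1 : F) (mulT A B), mulR]
  induction normT (mulT A B) with
  | nil => rfl
  | cons a l ih =>
    by_cases h : a.c % (p : ℤ) = 0
    · have h0 : (a.c : F) = 0 := by rw [← cast_emod (p := p), h, Int.cast_zero]
      rw [List.filterMap_cons_none (by simp [h]), ih]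
      simp [evalT, Tm.val, h0]
    · rw [List.filterMap_cons_some (by simp [h]; rfl)]
      simp only [evalT, ih]
      congr 1
      simp [Tm.val, cast_emod]

theorem evalT_powR (A : List Tm) : ∀ k, evalT (1 : F) (powR p A k) = evalT 1 A ^ k
  | 0 => by rw [powR, evalT_oneT, pow_zero]
  | k + 1 => by rw [powR, evalT_mulR, evalT_powR A k, pow_succ]

theorem isOneR_iff (A : List Tm) : isOneR p A = true ↔ evalT (1 : F) A = 1 := by
  simp only [isOneR, List.all_eq_true, List.mem_finRange, true_implies, decide_eq_true_eq]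
  constructor
  · intro h
    ext i j
    have := h i j
    rw [← Int.dvd_iff_emod_eq_zero, ← CharP.intCast_eq_zero_iff F p, Int.cast_sub, sub_eq_zero] at this
    rw [evalT_one_entry, this, Matrix.one_apply]
    split_ifs <;> simp
  · intro h i j
    rw [← Int.dvd_iff_emod_eq_zero, ← CharP.intCast_eq_zero_iff F p, Int.cast_sub, sub_eq_zero,
      ← evalT_one_entry, h, Matrix.one_apply]
    split_ifs <;> simp

/-- The product of root elements. -/
noncomputable def wordEl (F : Type*) [Field F] : List (Fin 12) → ↥(chevG2.group F)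
  | [] => 1
  | r :: l => ⟨(coreG2 F).xGL r.val 1, (coreG2 F).xGL_mem_group _ _⟩ * wordEl F l

theorem mat_oct_word : ∀ l : List (Fin 12), mat (oct (wordEl F l)) = evalT (1 : F) (wordR p l)
  | [] => by simp [wordEl, wordR, evalT_oneT, mat]
  | r :: l => by
    have h : oct (⟨(coreG2 F).xGL r.val 1, (coreG2 F).xGL_mem_group _ _⟩ : ↥(chevG2.group F)) =
        ⟨x8 r 1, x8_mem r 1⟩ := oct_x (by simp [ChevCore.coe_xGL])
    rw [wordEl, map_mul, h, wordR, evalT_mulR, ← mat_oct_word l]
    rfl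

theorem orderOf_word (l : List (Fin 12)) (n : ℕ) (hn : isOneR p (powR p (wordR p l) n) = true)
    (hne : ∀ q ∈ n.primeFactors, isOneR p (powR p (wordR p l) (n / q)) = false) (h0 : 0 < n) :
    orderOf (wordEl F l) = n := by
  have key : ∀ k, wordEl F l ^ k = 1 ↔ isOneR p (powR p (wordR p l) k) = true := fun k => by
    rw [isOneR_iff (F := F), evalT_powR, ← mat_oct_word, ← oct_injective.eq_iff, map_pow, map_one]
    constructor
    · intro h
      have := congrArg mat h
      simpa [mat] using this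
    · intro h
      exact Subtype.ext (Units.ext (by simpa [mat] using h))
  refine orderOf_eq_of_pow_and_pow_div_prime h0 ((key n).2 hn) fun q hq hqn e => ?_
  rw [key, hne q (Nat.mem_primeFactors.2 ⟨hq, hqn, h0.ne'⟩)] at e
  exact Bool.false_ne_true e

theorem checks : (isOneR 2 (powR 2 (wordR 2 [0, 8]) 8) = true ∧ isOneR 2 (powR 2 (wordR 2 [0, 8]) 4) = false) ∧
    (isOneR 2 (powR 2 (wordR 2 [0, 2, 9]) 12) = true ∧ isOneR 2 (powR 2 (wordR 2 [0, 2, 9]) 6) = false ∧
      isOneR 2 (powR 2 (wordR 2 [0, 2, 9]) 4) = false) ∧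
    (isOneR 3 (powR 3 (wordR 3 [0, 8]) 9) = true ∧ isOneR 3 (powR 3 (wordR 3 [0, 8]) 3) = false) ∧
    (isOneR 5 (powR 5 (wordR 5 [0, 8]) 25) = true ∧ isOneR 5 (powR 5 (wordR 5 [0, 8]) 5) = false) := by
  decide +kernel

theorem mem_small_two [CharP F 2] :
    8 ∈ Set.range (orderOf : ↥(chevG2.group F) → ℕ) ∧ 12 ∈ Set.range (orderOf : ↥(chevG2.group F) → ℕ) := by
  obtain ⟨⟨a, b⟩, ⟨c, d, e⟩, -⟩ := checks
  refine ⟨⟨_, orderOf_word (p := 2) _ 8 a ?_ (by norm_num)⟩, ⟨_, orderOf_word (p := 2) _ 12 c ?_ (by norm_num)⟩⟩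
  · intro q hq
    rw [show (8 : ℕ) = 2 ^ 3 from rfl, Nat.primeFactors_prime_pow (by norm_num) Nat.prime_two,
      Finset.mem_singleton] at hq
    subst hq; exact b
  · intro q hq
    rw [Nat.mem_primeFactors] at hq
    obtain ⟨hqp, hqd, -⟩ := hq
    rcases (Nat.Prime.dvd_mul hqp).1 (show q ∣ 2 ^ 2 * 3 from hqd) with h | h
    · obtain rfl := (Nat.prime_dvd_prime_iff_eq hqp Nat.prime_two).1 (hqp.dvd_of_dvd_pow h)
      exact d
    · obtain rfl := (Nat.prime_dvd_prime_iff_eq hqp Nat.prime_three).1 h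
      exact e

theorem mem_small_sq (hp : p = 3 ∨ p = 5) : p ^ 2 ∈ Set.range (orderOf : ↥(chevG2.group F) → ℕ) := by
  obtain ⟨-, -, ⟨a, b⟩, c, d⟩ := checks
  rcases hp with rfl | rfl
  · refine ⟨_, orderOf_word (p := 3) _ _ a ?_ (by norm_num)⟩
    intro q hq
    rw [Nat.primeFactors_prime_pow (by norm_num) Nat.prime_three, Finset.mem_singleton] at hq
    subst hq; exact b
  · refine ⟨_, orderOf_word (p := 5) _ _ c ?_ (by norm_num)⟩
    intro q hq
    rw [Nat.primeFactors_prime_pow (by norm_num) (by norm_num : Nat.Prime 5), Finset.mem_singleton] at hq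
    subst hq; exact d

end Small

section Levi

variable {F : Type*} [Field F]

local notation "SL2" => SpecialLinearGroup (Fin 2) F
local notation "GL2" => GL (Fin 2) F
local notation "M2" => Matrix (Fin 2) (Fin 2) F

/-- The determinant. -/
noncomputable abbrev dt (g : GL2) : Fˣ := GeneralLinearGroup.det g

/-- The special linear part. -/
noncomputable def slPart (g : GL2) : SL2 :=
  ⟨(g : M2) * !![(((dt g)⁻¹ : Fˣ) : F), 0; 0, 1], by
    rw [det_mul]
    simp [det_fin_two, dt]
    rw [← det_fin_two]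
    exact mul_inv_cancel₀ ((Matrix.isUnit_iff_isUnit_det _).1 g.isUnit).ne_zero⟩

theorem slPart_mul (g h : GL2) : slPart (g * h) = slPart g * dconj (dt g) (slPart h) := by
  obtain ⟨d, hd⟩ : ∃ d, d = dt g := ⟨_, rfl⟩
  obtain ⟨d', hd'⟩ : ∃ d', d' = dt h := ⟨_, rfl⟩
  have e : dt (g * h) = d * d' := by rw [hd, hd']; exact map_mul _ _ _
  ext i j
  show ((slPart (g * h) : SL2) : M2) i j = (((slPart g : SL2) : M2) * ((dconj (dt g) (slPart h) : SL2) : M2)) i j
  simp only [slPart, e, ← hd, ← hd', dconj, dconjFun, MonoidHom.coe_mk, OneHom.coe_mk]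
  fin_cases i <;> fin_cases j <;>
    simp [Matrix.mul_apply, Fin.sum_univ_two, Units.val_mul, _root_.mul_inv_rev] <;> field_simp

/-- The Levi subgroup of type `GL₂`. -/
noncomputable def gl : GL2 →* ↥(chevG2.group F) where
  toFun g := ⟨phiA (slPart g) * tor 1 (dt g)⁻¹, mul_mem (phiA_mem_group _) (torus_mem_group _)⟩
  map_one' := by
    apply Subtype.ext
    show phiA (slPart 1) * tor 1 (dt (1 : GL2))⁻¹ = 1
    have : slPart (1 : GL2) = 1 := by
      ext i j; fin_cases i <;> fin_cases j <;> simp [slPart, dt]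
    rw [this, map_one, one_mul, dt, map_one, inv_one, tor_one]
  map_mul' g h := by
    apply Subtype.ext
    show phiA (slPart (g * h)) * tor 1 (dt (g * h))⁻¹ =
      phiA (slPart g) * tor 1 (dt g)⁻¹ * (phiA (slPart h) * tor 1 (dt h)⁻¹)
    have e : tor 1 (dt g)⁻¹ * phiA (slPart h) =
        phiA (dconj (dt g) (slPart h)) * tor 1 (dt g)⁻¹ := by
      have := torus_conj_phiA (F := F) (vec 1 (dt g)⁻¹) (slPart h)
      rw [chr7, one_pow, one_mul, inv_inv] at this
      rw [← this, tor]; group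
    rw [slPart_mul, map_mul, mul_assoc (phiA (slPart g)) (tor 1 (dt g)⁻¹), ← mul_assoc (tor 1 (dt g)⁻¹),
      e, mul_assoc, mul_assoc, tor_mul, ← mul_inv, mul_one]
    simp only [dt, map_mul]

theorem gl_injective : Function.Injective (gl : GL2 → ↥(chevG2.group F)) := by
  refine (injective_iff_map_eq_one _).2 fun g hg => ?_
  have h : phiA (slPart g) * tor 1 (dt g)⁻¹ = 1 := congrArg Subtype.val hg
  have ht : tor 1 (dt g)⁻¹ = phiA (slPart g)⁻¹ := by rw [map_inv]; exact eq_inv_of_mul_eq_one_right h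
  have hd : dt g = 1 := by
    obtain ⟨e, he, hX, -⟩ := phiH_XY (F := F)
    have h1 := conj_x (F := F) (vec 1 (dt g)⁻¹) (r := 11) (by decide) e
    rw [show (co F).R.torus (vec 1 (dt g)⁻¹) = tor 1 (dt g)⁻¹ from rfl, ht,
      show (co F).xGL 11 e = phiH (slX 1) by rw [hX, mul_one], (phi_comm _ _).eq, mul_assoc, mul_inv_cancel, mul_one,
      hX, chr11] at h1
    have h2 := (co F).xGL_injective (show 11 < chevG2.nroots by decide) h1
    have he0 : e ≠ 0 := left_ne_zero_of_mul_eq_one he
    have : ((dt g)⁻¹ : Fˣ) = 1 := Units.ext (mul_right_cancel₀ he0 (by rw [← h2]; simp))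
    exact inv_eq_one.1 this
  rw [hd, inv_one, tor_one, mul_one] at h
  have hS : slPart g = 1 := phiA_injective (h.trans (map_one _).symm)
  refine Units.ext ?_
  have := congrArg (fun S : SL2 => (S : M2)) hS
  simpa [slPart, hd, ← Matrix.one_fin_two] using this

variable [Fintype F] {p : ℕ} [hp : Fact p.Prime] [CharP F p]

theorem slX_pow (k : ℕ) : (slX (1 : F) : SL2) ^ k = slX (k : F) := by
  induction k with
  | zero => ext i j; fin_cases i <;> fin_cases j <;> simp
  | succ k ih =>
    rw [pow_succ, ih]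
    ext i j; fin_cases i <;> fin_cases j <;> simp [Matrix.mul_apply, Fin.sum_univ_two, add_comm]

theorem orderOf_slX_one : orderOf (slX (1 : F) : SL2) = p := by
  refine orderOf_eq_prime ?_ ?_
  · rw [slX_pow, CharP.cast_eq_zero]; ext i j; fin_cases i <;> fin_cases j <;> simp
  · intro h
    have := congrFun (congrFun (congrArg Subtype.val h) 0) 1
    simp at this

theorem coprime_p {m : ℕ} (h : m + 1 = Fintype.card F ∨ m = Fintype.card F + 1) : Nat.Coprime p m := by
  rw [hp.out.coprime_iff_not_dvd]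
  intro hd
  have hpq : p ∣ Fintype.card F := by
    rw [← CharP.cast_eq_zero_iff F p]; exact FiniteField.cast_card_eq_zero F
  have h1 : p ∣ 1 := by
    rcases h with h | h
    · have := Nat.dvd_sub (h ▸ hpq) hd
      rwa [Nat.add_sub_cancel_left] at this
    · have := Nat.dvd_sub hd hpq
      rwa [h, Nat.add_sub_cancel_left] at this
  exact hp.out.not_dvd_one h1

theorem mem_mul_succ : p * (Fintype.card F + 1) ∈ Set.range (orderOf : ↥(chevG2.group F) → ℕ) := by
  obtain ⟨c, hc, -⟩ := CfsgLib.Schur.exists_nonsplit_torus (F := F)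
  obtain ⟨x, hx⟩ : ∃ x, x = ((slX (1 : F) : SL2), c) := ⟨_, rfl⟩
  have key : ∀ k : ℕ, psi x ^ k = 1 ↔ x ^ k = 1 := fun k => by
    rw [← map_pow, show x ^ k = ((slX (1 : F) : SL2) ^ k, c ^ k) by rw [hx]; rfl, psi_eq_one]
    refine ⟨fun h => ?_, fun h => Or.inl ⟨congrArg Prod.fst h, congrArg Prod.snd h⟩⟩
    rcases h with ⟨h1, h2⟩ | ⟨h1, h2⟩
    · rw [h1, h2]; rfl
    · have h00 : (((slX (k : F) : SL2)) : M2) 0 0 = 1 := by simp
      rw [← slX_pow, h1] at h00
      have hm : (-1 : SL2) = 1 := by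
        have : (-1 : F) = 1 := by simpa using h00
        ext i j; fin_cases i <;> fin_cases j <;> simp [this]
      rw [h1, h2, hm]; rfl
  refine ⟨⟨psi x, by rw [hx, psi_apply]; exact mul_mem (phiA_mem_group _) (phiH_mem_group _)⟩, ?_⟩
  rw [← orderOf_injective (chevG2.group F).subtype Subtype.val_injective]
  show orderOf (psi x) = _
  rw [orderOf_eq_orderOf_iff.2 key, hx, Prod.orderOf, hc, orderOf_slX_one]
  exact Nat.Coprime.lcm_eq_mul (coprime_p (Or.inr rfl))

theorem mem_mul_pred : p * (Fintype.card F - 1) ∈ Set.range (orderOf : ↥(chevG2.group F) → ℕ) := by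
  obtain ⟨ω, hω⟩ := IsCyclic.exists_generator (α := Fˣ)
  obtain ⟨z, hz⟩ : ∃ z : GL2, z = Units.map (algebraMap F M2).toMonoidHom ω := ⟨_, rfl⟩
  obtain ⟨u, hu⟩ : ∃ u : GL2, u = SpecialLinearGroup.toGL (slX (1 : F) : SL2) := ⟨_, rfl⟩
  have hoz : orderOf z = Fintype.card F - 1 := by
    rw [hz, orderOf_injective _ (Units.map_injective (f := (algebraMap F M2).toMonoidHom) (algebraMap F M2).injective),
      orderOf_eq_card_of_forall_mem_zpowers hω, Nat.card_units, Nat.card_eq_fintype_card]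
  have hou : orderOf u = p := by
    rw [hu, orderOf_injective _ SpecialLinearGroup.toGL_injective, orderOf_slX_one]
  have hcom : Commute u z := Units.ext (by
    show (u : M2) * (z : M2) = (z : M2) * (u : M2)
    rw [hz]
    exact ((Algebra.commute_algebraMap_left (ω : F) (u : M2)).eq).symm)
  refine ⟨gl (u * z), ?_⟩
  rw [orderOf_injective _ gl_injective, hcom.orderOf_mul_eq_mul_orderOf_of_coprime, hou, hoz]
  rw [hou, hoz]
  exact coprime_p (F := F) (Or.inl (Nat.sub_add_cancel Fintype.card_pos))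

theorem mem_sq_pred : Fintype.card F ^ 2 - 1 ∈ Set.range (orderOf : ↥(chevG2.group F) → ℕ) := by
  obtain ⟨p, hp⟩ := CharP.exists F
  have : Fact p.Prime := ⟨CharP.char_is_prime F p⟩
  let K := FiniteField.Extension F p 2
  have : Finite K := Module.finite_of_finite F
  obtain ⟨f, hf, -⟩ := CfsgLib.SpecLin.exists_unitsHom_of_extension F K (FiniteField.finrank_extension F p 2)
  obtain ⟨g, hg⟩ := IsCyclic.exists_generator (α := Kˣ)
  refine ⟨gl (f.toHomUnits g), ?_⟩
  have hinj : Function.Injective f.toHomUnits := fun a b h => hf (congrArg Units.val h)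
  rw [orderOf_injective _ gl_injective, orderOf_injective _ hinj, orderOf_eq_card_of_forall_mem_zpowers hg,
    Nat.card_units, FiniteField.natCard_extension, Nat.card_eq_fintype_card]

end Levi

section Cyclic

open Polynomial CfsgLib.ChevField

theorem cyclotomic_six : cyclotomic 6 ℤ = X ^ 2 - X + 1 := by
  have h := cyclotomic_expand_eq_cyclotomic_mul (p := 2) (n := 3) Nat.prime_two (by norm_num) ℤ
  rw [cyclotomic_three] at h
  simp only [map_add, map_pow, expand_X, map_one] at h
  refine mul_right_cancel₀ (b := (X ^ 2 + X + 1 : ℤ[X])) ?_ ?_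
  · rw [← cyclotomic_three]; exact cyclotomic_ne_zero 3 ℤ
  · rw [show (3 * 2 : ℕ) = 6 from rfl] at h
    rw [← h]; ring

theorem small_six : ∀ ℓ ∈ (6 : ℕ).primeFactors, ∀ b : ZMod (ℓ ^ 2),
    (cyclotomic 6 (ZMod (ℓ ^ 2))).eval b ≠ 0 := by
  intro ℓ hℓ b
  rw [← map_cyclotomic 6 (Int.castRingHom (ZMod (ℓ ^ 2))), cyclotomic_six]
  simp only [Polynomial.map_add, Polynomial.map_sub, Polynomial.map_pow, Polynomial.map_X, Polynomial.map_one,
    eval_add, eval_sub, eval_pow, eval_X, eval_one]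
  rw [Nat.mem_primeFactors] at hℓ
  obtain ⟨hp, hd, -⟩ := hℓ
  rcases (Nat.Prime.dvd_mul hp).1 (show ℓ ∣ 2 * 3 from hd) with h | h
  · obtain rfl := (Nat.prime_dvd_prime_iff_eq hp Nat.prime_two).1 h
    revert b; decide +kernel
  · obtain rfl := (Nat.prime_dvd_prime_iff_eq hp Nat.prime_three).1 h
    revert b; decide +kernel

variable {F : Type*} [Field F] [Fintype F]

theorem mem_sq_sub (h3 : 3 ≤ Fintype.card F) :
    Fintype.card F ^ 2 - Fintype.card F + 1 ∈ Set.range (orderOf : ↥(chevG2.group F) → ℕ) := by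
  obtain ⟨q, hq⟩ : ∃ q, Fintype.card F = q := ⟨_, rfl⟩
  rw [hq] at h3 ⊢
  have hqq : q ≤ q ^ 2 := Nat.le_self_pow (by norm_num) q
  have hev : (cyclotomic 6 ℤ).eval (q : ℤ) = ((q ^ 2 - q + 1 : ℕ) : ℤ) := by
    rw [cyclotomic_six]
    push_cast [hqq]
    simp
  obtain ⟨H, hc, hcard, -⟩ := CfsgLib.CycTorus.exists_self_centralizing (D := chevG2) (fun K _ => coreG2 K)
    invCartanG2 invCartanG2_spec (d := 6) (by norm_num)
    (by rw [show chevG2.rank = 2 by decide +kernel]; decide +kernel)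
    (N₀ := 6) [2, 6] (by decide +kernel) (e := 6) (by decide) (by norm_num)
    (fun K _ _ => Cfsg.Agent.S2371.card_group K)
    (fun K _ r hr h => Cfsg.Agent.S2371.not_dvd_weyl hr ((show 3 ∣ 6 by norm_num).trans h))
    (fun K _ => by
      show ∀ i ∈ ([2, 6] : List ℕ), i ∣ Nat.card reflDataG2.weyl
      rw [Cfsg.Agent.S2371.card_weyl]; decide)
    small_six hq (by rw [← hq]; exact Cfsg.Agent.S2371.card_group F)
    (by
      rw [hev]
      exact_mod_cast (show 6 < q ^ 2 - q + 1 by
        have : 3 * q ≤ q ^ 2 := by rw [pow_two]; exact Nat.mul_le_mul_right q h3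
        omega))
  obtain ⟨g, hg⟩ := hc.exists_generator
  refine ⟨(g : ↥(chevG2.group F)), ?_⟩
  rw [Subgroup.orderOf_coe, orderOf_eq_card_of_forall_mem_zpowers hg]
  exact Int.ofNat.inj (hcard.trans hev)

theorem mem_sq_add (h3 : 3 ≤ Fintype.card F) :
    Fintype.card F ^ 2 + Fintype.card F + 1 ∈ Set.range (orderOf : ↥(chevG2.group F) → ℕ) := by
  obtain ⟨H, hc, hcard, -⟩ := Cfsg.Agent.S2371.result (F := F) _ rfl h3
  obtain ⟨g, hg⟩ := hc.exists_generator
  exact ⟨(g : ↥(chevG2.group F)), by rw [Subgroup.orderOf_coe, orderOf_eq_card_of_forall_mem_zpowers hg, hcard]⟩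

/-- All allowed numbers are element orders. -/
theorem allowed_subset {p : ℕ} [Fact p.Prime] [CharP F p] (h3 : 3 ≤ Fintype.card F) :
    allowed p (Fintype.card F) ⊆ Set.range (orderOf : ↥(chevG2.group F) → ℕ) := by
  intro N hN
  have h1 := mem_mul_succ (F := F) (p := p)
  have h2 := mem_mul_pred (F := F) (p := p)
  have h3' := mem_sq_pred (F := F)
  have h4 := mem_sq_add h3
  have h5 := mem_sq_sub h3
  unfold allowed at hN
  split_ifs at hN with hp2 hp35
  · subst hp2
    obtain ⟨h6, h7⟩ := mem_small_two (F := F)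
    rcases hN with rfl | rfl | rfl | rfl | rfl | rfl | rfl <;> assumption
  · rcases hN with (rfl | rfl | rfl | rfl | rfl) | rfl
    all_goals first | assumption | exact mem_small_sq hp35
  · rcases hN with (rfl | rfl | rfl | rfl | rfl) | h
    all_goals first | assumption | exact absurd h (Set.notMem_empty _)

/-- Every element order divides an allowed number. -/
theorem exists_allowed {p n : ℕ} [Fact p.Prime] [CharP F p] (hq : Fintype.card F = p ^ n) (hn : n ≠ 0)
    (g : ↥(chevG2.group F)) : ∃ N ∈ allowed p (Fintype.card F), orderOf g ∣ N := by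
  obtain ⟨N, hN, h⟩ := order_bound hq hn (oct g) (det_oct g)
  exact ⟨N, hN, orderOf_dvd_of_pow_eq_one (oct_injective (by rw [map_pow, h, map_one]))⟩

/-- The maximal element orders are allowed numbers. -/
theorem maximal_subset {p n : ℕ} [Fact p.Prime] [CharP F p] (hq : Fintype.card F = p ^ n) (hn : n ≠ 0)
    (h3 : 3 ≤ Fintype.card F) :
    {m : ℕ | m ∈ Set.range (orderOf : ↥(chevG2.group F) → ℕ) ∧
      ∀ k ∈ Set.range (orderOf : ↥(chevG2.group F) → ℕ), m ∣ k → k = m} ⊆ allowed p (Fintype.card F) := by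
  rintro m ⟨⟨g, rfl⟩, hmax⟩
  obtain ⟨N, hN, hd⟩ := exists_allowed hq hn g
  rwa [← hmax N (allowed_subset h3 hN) hd]

end Cyclic

end CfsgLib.G2Spec
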